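import Cfsg.Agent.Lib.Extra.SuzThree.Model
import Cfsg.Agent.Lib.Extra.SuzLocal.BType

/-!
# The three planes of an element of order three with a two-dimensional commutator
-/

set_option autoImplicit false
set_option linter.style.haveILetI false

namespace Cfsg.Lib.Extra.SuzThree

open Cfsg Module Cfsg.Lib.Linear Cfsg.Lib.Linear.Orth Cfsg.Lib.Extra.Wide Cfsg.Lib.Extra.SuzLocal
open scoped Matrix

variable {G : Type*} [Group G] {ι : Type} [Fintype ι] [DecidableEq ι] {D : Data G ι}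

section Lin

variable {g : GL ι (ZMod 2)} (h3 : g ^ 3 = 1)
include h3

theorem act_thrice (x : ι → ZMod 2) : g.val *ᵥ (g.val *ᵥ (g.val *ᵥ x)) = x := by
  rw [← mul_act, ← mul_act, show g * g * g = g ^ 3 by rw [pow_succ, pow_two], h3, Units.val_one,
    Matrix.one_mulVec]

/-- The orbit sum is fixed. -/
theorem fix_sum (x : ι → ZMod 2) :
    g.val *ᵥ (x + g.val *ᵥ x + g.val *ᵥ (g.val *ᵥ x)) = x + g.val *ᵥ x + g.val *ᵥ (g.val *ᵥ x) := by
  rw [Matrix.mulVec_add, Matrix.mulVec_add, act_thrice h3]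
  abel

theorem sum_range {u : ι → ZMod 2} (hu : u ∈ LinearMap.range (nMap g)) :
    u + g.val *ᵥ u + g.val *ᵥ (g.val *ᵥ u) = 0 := by
  obtain ⟨x, rfl⟩ := hu
  rw [nMap_apply, Matrix.mulVec_add, Matrix.mulVec_add, act_thrice h3]
  calc _ = (x + x) + (g.val *ᵥ x + g.val *ᵥ x) + (g.val *ᵥ (g.val *ᵥ x) + g.val *ᵥ (g.val *ᵥ x)) := by abel
    _ = 0 := by simp only [vadd_self, add_zero]

theorem fix_range_zero {u : ι → ZMod 2} (hu : u ∈ LinearMap.range (nMap g))
    (hf : g.val *ᵥ u = u) : u = 0 := by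
  have h := sum_range h3 hu
  rw [hf, hf, vadd_self, zero_add] at h
  exact h

theorem three_decomp (x : ι → ZMod 2) :
    ∃ w u, g.val *ᵥ w = w ∧ u ∈ LinearMap.range (nMap g) ∧ w + u = x := by
  refine ⟨_, nMap g (g.val *ᵥ x), fix_sum h3 x, ⟨_, rfl⟩, ?_⟩
  rw [nMap_apply]
  calc _ = x + (g.val *ᵥ x + g.val *ᵥ x) + (g.val *ᵥ (g.val *ᵥ x) + g.val *ᵥ (g.val *ᵥ x)) := by abel
    _ = x := by rw [vadd_self, vadd_self, add_zero, add_zero]

end Lin

theorem fix_orth {g : GL ι (ZMod 2)} (hg : g ∈ isometryGroup (ZMod 2) D.qf) {w u : ι → ZMod 2}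
    (hw : g.val *ᵥ w = w) (hu : u ∈ LinearMap.range (nMap g)) : D.B w u = 0 := by
  obtain ⟨x, rfl⟩ := hu
  have h := D.space.B_act hg w x
  rw [hw] at h
  rw [nMap_apply, map_add, h, bit_self]

/-- An element of order three with a two-dimensional commutator. -/
structure Three (D : Data G ι) (b : G) : Prop where
  cube : b ^ 3 = 1
  comm : Commute b D.z
  rk : finrank (ZMod 2) (LinearMap.range (nMap (D.act b))) = 2

theorem Three.act3 {b : G} (h : Three D b) : D.act b ^ 3 = 1 := by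
  rw [← D.act_pow h.comm, h.cube, D.act_one]

theorem Three.iso {b : G} (h : Three D b) : D.act b ∈ isometryGroup (ZMod 2) D.qf := D.act_iso h.comm

/-- Coordinates by three planes. -/
structure Coords (D : Data G ι) where
  /-- The vector of a code. -/
  φ : ℕ → (ι → ZMod 2)
  add : ∀ {a b : ℕ}, a < 64 → b < 64 → φ (a ^^^ b) = φ a + φ b
  q : ∀ {a : ℕ}, a < 64 → D.qf (φ a) = (qM a : ZMod 2)
  B : ∀ {a b : ℕ}, a < 64 → b < 64 → D.B (φ a) (φ b) = (bM a b : ZMod 2)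
  surj : ∀ x, ∃ n < 64, φ n = x

/-- The combination of six vectors by a code. -/
def comb (p : Fin 6 → (ι → ZMod 2)) (n : ℕ) : ι → ZMod 2 :=
  (n : ZMod 2) • p 0 + ((n / 2 : ℕ) : ZMod 2) • p 1 + ((n / 4 : ℕ) : ZMod 2) • p 2 +
    ((n / 8 : ℕ) : ZMod 2) • p 3 + ((n / 16 : ℕ) : ZMod 2) • p 4 + ((n / 32 : ℕ) : ZMod 2) • p 5

set_option maxRecDepth 10000 in
theorem xor_cast : ∀ a < 64, ∀ b < 64, (((a ^^^ b : ℕ)) : ZMod 2) = (a : ZMod 2) + (b : ZMod 2) ∧
    (((a ^^^ b) / 2 : ℕ) : ZMod 2) = ((a / 2 : ℕ) : ZMod 2) + ((b / 2 : ℕ) : ZMod 2) ∧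
    (((a ^^^ b) / 4 : ℕ) : ZMod 2) = ((a / 4 : ℕ) : ZMod 2) + ((b / 4 : ℕ) : ZMod 2) ∧
    (((a ^^^ b) / 8 : ℕ) : ZMod 2) = ((a / 8 : ℕ) : ZMod 2) + ((b / 8 : ℕ) : ZMod 2) ∧
    (((a ^^^ b) / 16 : ℕ) : ZMod 2) = ((a / 16 : ℕ) : ZMod 2) + ((b / 16 : ℕ) : ZMod 2) ∧
    (((a ^^^ b) / 32 : ℕ) : ZMod 2) = ((a / 32 : ℕ) : ZMod 2) + ((b / 32 : ℕ) : ZMod 2) := by
  intro a ha b hb
  obtain ⟨-, h0, h1, h2, h3, h4, h5⟩ := xor_bits a ha b hb
  generalize a ^^^ b = e at *
  have key : ∀ {x y w : ℕ}, x % 2 = (y % 2 + w % 2) % 2 → (x : ZMod 2) = (y : ZMod 2) + (w : ZMod 2) := by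
    intro x y w h
    rw [← ZMod.natCast_mod x 2, h, ZMod.natCast_mod, Nat.cast_add, ZMod.natCast_mod, ZMod.natCast_mod]
  exact ⟨key h0, key h1, key h2, key h3, key h4, key h5⟩

theorem bM_cast (a b : ℕ) : (bM a b : ZMod 2) =
    (a : ZMod 2) * ((b / 2 : ℕ) : ZMod 2) + ((a / 2 : ℕ) : ZMod 2) * (b : ZMod 2) +
    ((a / 4 : ℕ) : ZMod 2) * ((b / 8 : ℕ) : ZMod 2) + ((a / 8 : ℕ) : ZMod 2) * ((b / 4 : ℕ) : ZMod 2) +
    ((a / 16 : ℕ) : ZMod 2) * ((b / 32 : ℕ) : ZMod 2) + ((a / 32 : ℕ) : ZMod 2) * ((b / 16 : ℕ) : ZMod 2) := by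
  simp only [bM, ZMod.natCast_mod, Nat.cast_add, Nat.cast_mul]

theorem qM_cast (a : ℕ) : (qM a : ZMod 2) =
    ((a : ZMod 2) + ((a / 2 : ℕ) : ZMod 2) + (a : ZMod 2) * ((a / 2 : ℕ) : ZMod 2)) +
    (((a / 4 : ℕ) : ZMod 2) + ((a / 8 : ℕ) : ZMod 2) + ((a / 4 : ℕ) : ZMod 2) * ((a / 8 : ℕ) : ZMod 2)) +
    (((a / 16 : ℕ) : ZMod 2) + ((a / 32 : ℕ) : ZMod 2) + ((a / 16 : ℕ) : ZMod 2) * ((a / 32 : ℕ) : ZMod 2)) := by
  simp only [qM, ZMod.natCast_mod, Nat.cast_add, Nat.cast_mul]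

/-- The six vectors of three anisotropic planes. -/
structure Planes (D : Data G ι) (p : Fin 6 → (ι → ZMod 2)) : Prop where
  q : ∀ i, D.qf (p i) = 1
  pair : D.B (p 0) (p 1) = 1 ∧ D.B (p 2) (p 3) = 1 ∧ D.B (p 4) (p 5) = 1
  perp : D.B (p 0) (p 2) = 0 ∧ D.B (p 0) (p 3) = 0 ∧ D.B (p 0) (p 4) = 0 ∧ D.B (p 0) (p 5) = 0 ∧
    D.B (p 1) (p 2) = 0 ∧ D.B (p 1) (p 3) = 0 ∧ D.B (p 1) (p 4) = 0 ∧ D.B (p 1) (p 5) = 0 ∧
    D.B (p 2) (p 4) = 0 ∧ D.B (p 2) (p 5) = 0 ∧ D.B (p 3) (p 4) = 0 ∧ D.B (p 3) (p 5) = 0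

theorem Planes.coords {p : Fin 6 → (ι → ZMod 2)} (P : Planes D p) (h6 : Fintype.card ι = 6) :
    ∃ K : Coords D, K.φ = comb p := by
  obtain ⟨a01, a23, a45⟩ := P.pair
  obtain ⟨b02, b03, b04, b05, b12, b13, b14, b15, b24, b25, b34, b35⟩ := P.perp
  have s := D.space.symm
  have hB : ∀ a b, D.B (comb p a) (comb p b) = (bM a b : ZMod 2) := fun a b => by
    rw [bM_cast, comb, comb]
    simp [a01, a23, a45, b02, b03, b04, b05, b12, b13, b14, b15, b24, b25, b34, b35, B_self D.space,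
      s (p 1) (p 0), s (p 2) (p 0), s (p 3) (p 0), s (p 4) (p 0), s (p 5) (p 0), s (p 2) (p 1),
      s (p 3) (p 1), s (p 4) (p 1), s (p 5) (p 1), s (p 3) (p 2), s (p 4) (p 2), s (p 5) (p 2),
      s (p 4) (p 3), s (p 5) (p 3), s (p 5) (p 4)]
  have hadd : ∀ {a b : ℕ}, a < 64 → b < 64 → comb p (a ^^^ b) = comb p a + comb p b := fun {a b} ha hb => by
    obtain ⟨h0, h1, h2, h3, h4, h5⟩ := xor_cast a ha b hb
    simp only [comb, h0, h1, h2, h3, h4, h5, add_smul]
    abel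
  have hq : ∀ a, D.qf (comb p a) = (qM a : ZMod 2) := fun a => by
    rw [qM_cast, comb, D.space.add, D.space.add, D.space.add, D.space.add, D.space.add]
    simp only [D.space.smul, P.q, map_add, map_smul, LinearMap.add_apply, LinearMap.smul_apply,
      a01, a23, a45, b02, b03, b04, b05, b12, b13, b14, b15, b24, b25, b34, b35, smul_eq_mul]
    have e : ∀ c : ZMod 2, c ^ 2 = c := by decide
    simp only [e, mul_one, mul_zero, add_zero, zero_add]
    ring
  refine ⟨⟨comb p, hadd, fun _ => hq _, fun _ _ => hB _ _, fun x => ?_⟩, rfl⟩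
  have hinj : Function.Injective fun n : Fin 64 => comb p n := by
    intro a b e
    by_contra hne
    have h64 := (xor_bits a a.2 b b.2).1
    have hx : (a : ℕ) ^^^ (b : ℕ) ≠ 0 := fun h => hne (Fin.ext (Nat.xor_eq_zero_iff.1 h))
    obtain ⟨c, hc, hc1⟩ := bM_nondeg _ h64 hx
    have h : D.B (comb p ((a : ℕ) ^^^ (b : ℕ))) (comb p c) = 0 := by
      rw [hadd a.2 b.2, show comb p a = comb p b from e, vadd_self, map_zero, LinearMap.zero_apply]
    rw [hB, hc1] at h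
    exact one_ne_zero (Nat.cast_one.symm.trans h)
  obtain ⟨n, hn⟩ := ((Fintype.bijective_iff_injective_and_card _).2 ⟨hinj, by simp [h6]⟩).2 x
  exact ⟨n, n.2, hn⟩

/-- An element of order three with a two-dimensional commutator rotates the first of three planes. -/
theorem Three.exists_planes {b : G} (h : Three D b) (M : Model D) :
    ∃ p, Planes D p ∧ (D.act b).val *ᵥ p 0 = p 1 ∧ (D.act b).val *ᵥ p 1 = p 0 + p 1 ∧
      ∀ i : Fin 6, 2 ≤ i.1 → (D.act b).val *ᵥ p i = p i := by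
  set g := D.act b with hg
  have h3 : g ^ 3 = 1 := h.act3
  have hiso : g ∈ isometryGroup (ZMod 2) D.qf := h.iso
  set R := LinearMap.range (nMap g) with hR
  obtain ⟨u, hu, hu0⟩ := R.exists_mem_ne_zero_of_ne_bot fun e => by
    have := h.rk; rw [← hR, e, finrank_bot] at this; omega
  set u' := g.val *ᵥ u with hu'
  have hu'R : u' ∈ R := range_inv (Commute.refl g) hu
  have hsum := sum_range h3 hu
  have hgu' : g.val *ᵥ u' = u + u' := (vadd_eq_zero hsum).symm
  have hne : u' ≠ u := fun e => hu0 (fix_range_zero h3 hu e)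
  have hspan : ∀ r ∈ R, ∃ i j : ZMod 2, r = i • u + j • u' := by
    have hle : Submodule.span (ZMod 2) {u} ⊔ Submodule.span (ZMod 2) {u'} ≤ R :=
      sup_le ((Submodule.span_singleton_le_iff_mem _ _).2 hu) ((Submodule.span_singleton_le_iff_mem _ _).2 hu'R)
    have hnm : u' ∉ Submodule.span (ZMod 2) {u} := fun hm => by
      obtain ⟨c, hc⟩ := Submodule.mem_span_singleton.1 hm
      rcases bit c with rfl | rfl
      · rw [zero_smul] at hc
        exact hu0 (act_injective g (by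
          show g.val *ᵥ u = g.val *ᵥ 0
          rw [Matrix.mulVec_zero, ← hu', hc]))
      · exact hne (by rw [one_smul] at hc; exact hc.symm)
    have he : Submodule.span (ZMod 2) {u} ⊔ Submodule.span (ZMod 2) {u'} = R :=
      Submodule.eq_of_le_of_finrank_le hle (by
        have := finrank_sup_one hnm
        rw [finrank_span_singleton hu0] at this
        rw [h.rk]; exact this)
    intro r hr
    rw [← he] at hr
    obtain ⟨r1, h1, r2, h2, rfl⟩ := Submodule.mem_sup.1 hr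
    obtain ⟨i, rfl⟩ := Submodule.mem_span_singleton.1 h1
    obtain ⟨j, rfl⟩ := Submodule.mem_span_singleton.1 h2
    exact ⟨i, j, rfl⟩
  have horth : ∀ {w r}, g.val *ᵥ w = w → r ∈ R → D.B w r = 0 := fun hw hr => fix_orth hiso hw hr
  have hqu' : D.qf u' = D.qf u := mem_iso.1 hiso u
  have huu : D.qf u = D.B u u' := by
    have e : D.qf (g.val *ᵥ u') = D.qf u' := mem_iso.1 hiso u'
    rw [hgu', D.space.add, hqu'] at e
    linear_combination -e + bit_self (D.qf u)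
  have hqu : D.qf u = 1 := (bit _).resolve_left fun e => hu0 (D.space.nondeg' fun x => by
    obtain ⟨w, r, hw, hr, rfl⟩ := three_decomp h3 x
    obtain ⟨i, j, rfl⟩ := hspan r hr
    rw [e] at huu
    simp [D.space.symm u w, horth hw hu, B_self D.space, ← huu])
  rw [hqu] at huu hqu'
  set W := fixSpace g with hW
  have hW4 : finrank (ZMod 2) W = 4 := by
    have := finrank_range_nMap g
    rw [← hR, h.rk, ← hW, M.six.card] at this
    omega
  have hnd : NDeg D.B W := fun w hw hall => D.space.nondeg' fun x => by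
    obtain ⟨w', r, hw', hr, rfl⟩ := three_decomp h3 x
    rw [map_add, hall w' (mem_fix.2 hw'), horth (mem_fix.1 hw) hr, add_zero]
  obtain ⟨a, ha, ha0, hqa⟩ := exists_sing D.space W (by omega)
  obtain ⟨a', H⟩ := exists_hyp D.space hnd ha ha0 hqa
  set U := perp2 D.B W a a' with hU
  have hU2 : 2 ≤ finrank (ZMod 2) U := by have := H.le_finrank D.space; rw [← hU] at this; omega
  obtain ⟨c, hc, hc0, hqc⟩ : ∃ c ∈ U, c ≠ 0 ∧ D.qf c = 0 := by
    by_contra hno
    push Not at hno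
    have hone : ∀ x ∈ U, x ≠ 0 → D.qf x = 1 := fun x hx h0 => (bit _).resolve_left (hno x hx h0)
    obtain ⟨v, hv, hv0⟩ := U.exists_mem_ne_zero_of_ne_bot fun e => by rw [e, finrank_bot] at hU2; omega
    obtain ⟨v', hv', hvn⟩ : ∃ v' ∈ U, v' ∉ Submodule.span (ZMod 2) {v} := by
      by_contra hc'
      push Not at hc'
      have := Submodule.finrank_mono (show U ≤ Submodule.span (ZMod 2) {v} from hc')
      rw [finrank_span_singleton hv0] at this
      exact absurd (hU2.trans this) (by norm_num)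
    have hv'0 : v' ≠ 0 := fun e => hvn (e ▸ zero_mem _)
    have hvv : D.B v v' = 1 := by
      have := hone _ (U.add_mem hv hv') fun e => hvn (vadd_eq_zero e ▸ Submodule.mem_span_singleton_self v)
      rw [D.space.add, hone v hv hv0, hone v' hv' hv'0] at this
      linear_combination this - bit_self (1 : ZMod 2)
    obtain ⟨hvW, hav, ha'v⟩ := mem_perp2.1 hv
    obtain ⟨hv'W, hav', ha'v'⟩ := mem_perp2.1 hv'
    have o : ∀ {w}, w ∈ W → D.B w u = 0 ∧ D.B w u' = 0 ∧ D.B u w = 0 ∧ D.B u' w = 0 := fun {w} hw =>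
      ⟨horth (mem_fix.1 hw) hu, horth (mem_fix.1 hw) hu'R, by rw [D.space.symm]; exact horth (mem_fix.1 hw) hu,
        by rw [D.space.symm]; exact horth (mem_fix.1 hw) hu'R⟩
    obtain ⟨o1, o2, o3, o4⟩ := o ha
    obtain ⟨o5, o6, o7, o8⟩ := o hvW
    obtain ⟨o9, o10, o11, o12⟩ := o hv'W
    obtain ⟨o13, o14, o15, o16⟩ := o H.memF
    have s := D.space.symm
    let Φ : (Fin 3 → ZMod 2) →ₗ[ZMod 2] (ι → ZMod 2) :=
      { toFun := fun x => x 0 • a + x 1 • (u + v) + x 2 • (u' + v')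
        map_add' := fun x y => by simp only [Pi.add_apply, add_smul]; abel
        map_smul' := fun k x => by simp only [Pi.smul_apply, smul_eq_mul, mul_smul, smul_add, RingHom.id_apply] }
    have hΦ : ∀ x, Φ x = x 0 • a + x 1 • (u + v) + x 2 • (u' + v') := fun x => rfl
    refine M.six.noHalf ⟨LinearMap.range Φ, ?_, ?_⟩
    · rintro _ ⟨x, rfl⟩
      rw [hΦ, D.space.add, D.space.add]
      simp [D.space.smul, D.space.add, hqa, hqu, hqu', hone v hv hv0, hone v' hv' hv'0,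
        o1, o2, o5, o6, o7, o8, o9, o10, o11, o12, hav, hav', hvv, ← huu, bit_self]
    · have hinj : Function.Injective Φ := by
        rw [← LinearMap.ker_eq_bot, LinearMap.ker_eq_bot']
        intro x hx
        have e0 := congrArg (D.B a') hx
        have e1 := congrArg (D.B u') hx
        have e2 := congrArg (D.B u) hx
        simp [hΦ, H.pair' D.space, ha'v, ha'v', o13, o14, o2, o3, o4, o7, o8, o11, o12, ← huu, B_self D.space,
          s u' u] at e0 e1 e2
        funext i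
        fin_cases i
        exacts [e0, e1, e2]
      rw [LinearMap.finrank_range_of_inj hinj, finrank_fintype_fun_eq_card, M.six.card]
      simp
  obtain ⟨c', H'⟩ := exists_hyp D.space (H.ndeg D.space hnd) hc hc0 hqc
  obtain ⟨hcW, hac, ha'c⟩ := mem_perp2.1 hc
  obtain ⟨hc'W, hac', ha'c'⟩ := mem_perp2.1 H'.memF
  have s := D.space.symm
  have o : ∀ {w}, w ∈ W → D.B u w = 0 ∧ D.B u' w = 0 := fun {w} hw =>
    ⟨by rw [s]; exact horth (mem_fix.1 hw) hu, by rw [s]; exact horth (mem_fix.1 hw) hu'R⟩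
  obtain ⟨o1, o2⟩ := o ha
  obtain ⟨o3, o4⟩ := o H.memF
  obtain ⟨o5, o6⟩ := o hcW
  obtain ⟨o7, o8⟩ := o hc'W
  refine ⟨![u, u', a + a', a + c + c', c + c', c + a + a'], ⟨fun i => ?_, ?_, ?_⟩, rfl, hgu', fun i hi => ?_⟩
  · fin_cases i <;> simp [D.space.add, hqu, hqu', hqa, H.singF, hqc, H'.singF, H.pair, H'.pair, hac, hac',
      s c a, s c a', ha'c, ha'c', bit_self, map_add]
  · simp [← huu, H.pair, H'.pair, H.pair' D.space, H'.pair' D.space, hac, hac', ha'c, ha'c', B_self D.space,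
      s c a, s c a', s c' a, s c' a', bit_self]
  · simp [o1, o2, o3, o4, o5, o6, o7, o8, H.pair, H'.pair, H.pair' D.space, H'.pair' D.space, hac, hac', ha'c,
      ha'c', B_self D.space, s c a, s c a', s c' a, s c' a', bit_self]
  · fin_cases i
    · simp at hi
    · simp at hi
    all_goals
      refine mem_fix.1 ?_
      first
        | exact add_mem ha H.memF
        | exact add_mem (add_mem ha hcW) hc'W
        | exact add_mem hcW hc'W
        | exact add_mem (add_mem hcW ha) H.memF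

end Cfsg.Lib.Extra.SuzThree
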