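import Cfsg.Agent.Lib.Extra.SuzThree.Split
import Cfsg.Agent.Lib.Extra.SuzLocal.FromHyp

/-!
# The centralizer of an element of order three in Suzuki type
-/

set_option autoImplicit false
set_option linter.style.haveILetI false

namespace Cfsg.Lib.Extra.SuzThree

open Cfsg Module Cfsg.Lib.Linear Cfsg.Lib.Linear.Orth Cfsg.Lib.Extra Cfsg.Lib.Extra.Wide Cfsg.Lib.Extra.SuzLocal
open scoped Matrix

variable {G : Type*} [Group G] [Finite G]

/-- The configuration with prescribed central involution and subgroup. -/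
theorem exists_model_eq (z : G) (hz : orderOf z = 2)
    (Q : Subgroup (Subgroup.centralizer ({z} : Set G))) [Q.Normal]
    (hF : Cfsg.generalizedFittingSubgroup (Subgroup.centralizer ({z} : Set G)) = Q)
    (hQ : Cfsg.IsExtraspecial 2 Q) (hcard : Nat.card Q = 2 ^ 7)
    (e : (Subgroup.centralizer ({z} : Set G)) ⧸ Q ≃*
      Cfsg.Omega (ZMod 2) (Cfsg.quadFormMinus 2 (ZMod 2) 1 1))
    (hnwc : ∃ g : G, (∃ hq : g * z * g⁻¹ ∈ Subgroup.centralizer ({z} : Set G),
      (⟨g * z * g⁻¹, hq⟩ : Subgroup.centralizer ({z} : Set G)) ∈ Q) ∧ g * z * g⁻¹ ≠ z) :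
    ∃ D : Data G ((Fin 2 ⊕ Fin 2) ⊕ Fin 2), Model D ∧ D.z = z ∧
      D.Q = Q.map (Subgroup.centralizer ({z} : Set G)).subtype := by
  classical
  haveI : Fact (Nat.Prime 2) := ⟨Nat.prime_two⟩
  obtain ⟨Bm, Sm⟩ := exists_space_minus (F := ZMod 2) 2 1 1 aniso_two
  obtain ⟨Bp, Sp⟩ := exists_space_plus (F := ZMod 2) 3
  have hΩ := two_mul_card_omega Sm (by simp)
  rw [card_minus_six] at hΩ
  rcases model_cases hQ 2 (by rw [hcard]) with ⟨⟨f⟩⟩ | ⟨⟨f⟩⟩
  · exfalso
    have h := (exists_data z hz Q hF hQ (pairForm_nondeg _)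
      (plusCoords 3) (plus_form 3) Sp (by simp) (by simp; decide) f e hnwc).1
    rw [card_plus_six] at h
    rw [show Nat.card ↥(Cfsg.Omega (ZMod 2) (Cfsg.quadFormMinus 2 (ZMod 2) 1 1)) = 25920 by omega] at h
    norm_num at h
  · obtain ⟨D, hD, hDz, hDQ⟩ := (exists_data_eq z hz Q hF hQ (pairForm_nondeg _)
      (minusCoords 2) (minus_form 2) Sm (by simp) (by simp; decide) f e hnwc).2 rfl
    refine ⟨D, ⟨⟨by simp, by rw [hD]; exact no_half_minus_six⟩, ?_, ?_⟩, hDz, hDQ⟩
    · rw [hD, Cfsg.Geo.omegaGL, Subgroup.card_map_of_injective (Subgroup.subtype_injective _)]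
      omega
    · rw [hD]
      have h := (counts_minus (F := ZMod 2) (a := 1) (b := 1) 2 aniso_two).1 (by norm_num)
      rw [Nat.card_zmod] at h
      norm_num at h ⊢
      exact_mod_cast h

omit [Finite G] in
theorem cls_range {ι : Type} [Fintype ι] [DecidableEq ι] (D : Data G ι) {a q : G} (ha : Commute a D.z)
    (hq : q ∈ D.Q) : ∀ n : ℕ, q * a ^ n * q⁻¹ * (a ^ n)⁻¹ ∈ D.Q ∧
      D.cls (q * a ^ n * q⁻¹ * (a ^ n)⁻¹) ∈ LinearMap.range (nMap (D.act a)) := by
  intro n
  induction n with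
  | zero => simp [D.cls_one]
  | succ n ih =>
    obtain ⟨h1, h2⟩ := ih
    have h3 := D.conj_mem ha (inv_mem hq)
    have h4 := D.conj_mem ha h1
    have hs : q * (a * q⁻¹ * a⁻¹) ∈ D.Q := mul_mem hq h3
    have e : q * a ^ (n + 1) * q⁻¹ * (a ^ (n + 1))⁻¹ =
        q * (a * q⁻¹ * a⁻¹) * (a * (q * a ^ n * q⁻¹ * (a ^ n)⁻¹) * a⁻¹) := by
      rw [pow_succ']; group
    refine ⟨by rw [e]; exact mul_mem hs h4, ?_⟩
    rw [e, D.cls_mul _ hs _ h4, D.cls_mul _ hq _ h3, D.act_cls a ha _ (inv_mem hq), D.cls_inv hq,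
      D.act_cls a ha _ h1, add_comm (D.cls q), ← nMap_apply]
    exact add_mem ⟨_, rfl⟩ (range_inv (Commute.refl _) h2)

/-- An element with commutator of order eight in the extraspecial group has a two-dimensional
commutator on the quotient. -/
theorem three_of_commutator {ι : Type} [Fintype ι] [DecidableEq ι] (D : Data G ι) {a : G}
    (ha : orderOf a = 3) (haz : Commute a D.z) (S : Subgroup G) (hS : S ≤ D.Q)
    (hgen : ∀ x ∈ S, D.cls x ∈ LinearMap.range (nMap (D.act a)))
    (hmem : ∀ q ∈ D.Q, q * a * q⁻¹ * a⁻¹ ∈ S) (hcard : Nat.card S = 8)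
    (hna : ∃ u ∈ S, ∃ v ∈ S, u * v ≠ v * u) : Three D a := by
  classical
  refine ⟨ha ▸ pow_orderOf_eq_one a, haz, ?_⟩
  set R := LinearMap.range (nMap (D.act a))
  have hz : D.z ∈ S := by
    obtain ⟨u, hu, v, hv, hne⟩ := hna
    rcases D.ctx.comm u (hS hu) v (hS hv) with e | e
    · exact absurd (commute_of_mul_mul e).eq hne
    · rw [← e]; exact mul_mem (mul_mem (mul_mem hu hv) (inv_mem hu)) (inv_mem hv)
  let f : ↥S → ↥R := fun x => ⟨D.cls x, hgen x x.2⟩
  have hsurj : Function.Surjective f := by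
    rintro ⟨-, v, rfl⟩
    obtain ⟨q, hq, rfl⟩ := D.cls_surj v
    refine ⟨⟨_, hmem q hq⟩, Subtype.ext ?_⟩
    show D.cls (q * a * q⁻¹ * a⁻¹) = _
    have h3 := D.conj_mem haz (inv_mem hq)
    rw [show q * a * q⁻¹ * a⁻¹ = q * (a * q⁻¹ * a⁻¹) by group, D.cls_mul _ hq _ h3,
      D.act_cls a haz _ (inv_mem hq), D.cls_inv hq]
    exact add_comm _ _
  have hlt : Nat.card R < 8 := by
    rcases (Nat.card_le_card_of_surjective f hsurj).lt_or_eq with h | h
    · rwa [hcard] at h
    · exfalso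
      have hb := (Nat.bijective_iff_surjective_and_card f).2 ⟨hsurj, h.symm⟩
      refine D.ctx.ne_one ?_
      exact congrArg Subtype.val (hb.1 (a₁ := ⟨D.z, hz⟩) (a₂ := ⟨1, one_mem S⟩)
        (Subtype.ext (D.cls_z.trans D.cls_one.symm)))
  have hge : 8 ≤ Nat.card R * 2 := by
    let g : ↥S → ↥R × Bool := fun x => (f x, decide ((x : G) = ((hsurj (f x)).choose : G)))
    have hg : Function.Injective g := by
      intro x y e
      simp only [g, Prod.mk.injEq] at e
      obtain ⟨e1, e2⟩ := e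
      have hs := (hsurj (f x)).choose_spec
      set w := (hsurj (f x)).choose with hw
      have hw' : (hsurj (f y)).choose = w := by rw [hw]; simp only [e1]
      rw [hw', decide_eq_decide] at e2
      have hx := D.cls_eq (hS w.2) (hS x.2) (congrArg Subtype.val hs)
      have hy := D.cls_eq (hS w.2) (hS y.2) (congrArg Subtype.val (hs.trans e1))
      rcases hx with hx | hx
      · exact Subtype.ext (hx.trans (e2.1 hx).symm)
      · rcases hy with hy | hy
        · exact absurd ((e2.2 hy).symm.trans hx) fun h => D.ctx.ne_one (right_eq_mul.1 h)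
        · exact Subtype.ext (hx.trans hy.symm)
    have := Nat.card_le_card_of_injective g hg
    rwa [hcard, Nat.card_prod, Nat.card_eq_fintype_card (α := Bool), Fintype.card_bool] at this
  rw [Module.natCard_eq_pow_finrank (K := ZMod 2), Nat.card_zmod] at hlt hge
  rcases Nat.lt_or_ge (finrank (ZMod 2) R) 2 with h | h
  · have := Nat.pow_le_pow_right (show 0 < 2 by norm_num) (show finrank (ZMod 2) R ≤ 1 by omega)
    omega
  · rcases Nat.lt_or_ge (finrank (ZMod 2) R) 3 with h' | h'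
    · exact Nat.le_antisymm (by omega) h
    · have := Nat.pow_le_pow_right (show 0 < 2 by norm_num) h'
      omega

omit [Finite G] in
theorem quot_congr {C C' Y Y' : Subgroup G} [(Y.subgroupOf C).Normal] [(Y'.subgroupOf C').Normal]
    (hC : C = C') (hY : Y = Y') : Nonempty ((C ⧸ Y.subgroupOf C) ≃* (C' ⧸ Y'.subgroupOf C')) := by
  subst hC hY
  exact ⟨MulEquiv.refl _⟩

omit [Finite G] in
theorem centralizer_zpowers (y : G) :
    Subgroup.centralizer ((Subgroup.zpowers y : Subgroup G) : Set G) = Subgroup.centralizer ({y} : Set G) := by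
  refine le_antisymm (Subgroup.centralizer_le (by simp)) fun g hg => Subgroup.mem_centralizer_iff.2 ?_
  rintro _ ⟨i, rfl⟩
  exact ((show Commute g y from Subgroup.mem_centralizer_singleton_iff.1 hg).zpow_right i).eq.symm

omit [Finite G] in
theorem subgroupOf_self (y : G) :
    (Subgroup.zpowers y).subgroupOf (Subgroup.centralizer ({y} : Set G)) = selfGrp y := by
  ext x
  simp only [Subgroup.mem_subgroupOf, selfGrp, Subgroup.mem_zpowers_iff, Subtype.ext_iff]
  exact Iff.rfl

/-- The three conclusions. -/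
theorem main {ι : Type} [Fintype ι] [DecidableEq ι] {D : Data G ι} (T : Tri D) {Y : Subgroup G}
    (hY : Y = Subgroup.zpowers T.y0) [(Y.subgroupOf (Subgroup.centralizer (Y : Set G))).Normal]
    (K : Type) [Field K] [Fintype K] (hK : Fintype.card K = 9) :
    Cfsg.IsQuasisimple ↥(Subgroup.centralizer (Y : Set G)) ∧
      Nonempty (↥(Subgroup.centralizer (Y : Set G)) ⧸ Y.subgroupOf (Subgroup.centralizer (Y : Set G)) ≃*
        Cfsg.PSU 4 K 3) ∧
      (Subgroup.centralizer (Y : Set G)).relIndex (Subgroup.normalizer (Y : Set G)) = 2 := by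
  have hC : Subgroup.centralizer (Y : Set G) = Subgroup.centralizer ({T.y0} : Set G) := by
    rw [hY, centralizer_zpowers]
  refine ⟨by rw [hC]; exact T.quasisimple, ?_, ?_⟩
  · haveI : ((Subgroup.zpowers T.y0).subgroupOf (Subgroup.centralizer ({T.y0} : Set G))).Normal := by
      rw [subgroupOf_self]; infer_instance
    obtain ⟨e1⟩ := quot_congr hC hY
    obtain ⟨e⟩ := UFourThreeRecog.iso_psu_of_model T.exists_iso K hK
    exact ⟨e1.trans ((QuotientGroup.quotientMulEquivOfEq (subgroupOf_self T.y0)).trans e)⟩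
  · obtain ⟨c, -, hc⟩ := T.exists_inverter
    subst hY
    set N := Subgroup.normalizer ((Subgroup.zpowers T.y0 : Subgroup G) : Set G)
    have hcN : c ∈ N := Subgroup.mem_normalizer_fintype fun w hw => by
      obtain ⟨i, rfl⟩ := Subgroup.mem_zpowers_iff.1 hw
      show c * T.y0 ^ i * c⁻¹ ∈ _
      rw [← conj_zpow, hc]
      exact zpow_mem (inv_mem (Subgroup.mem_zpowers _)) i
    have hk := Subgroup.normalizerMonoidHom_ker (H := Subgroup.zpowers T.y0)
    rw [Subgroup.relIndex, ← hk, Subgroup.index_ker]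
    have hd : Nat.card ↥(Subgroup.normalizerMonoidHom (Subgroup.zpowers T.y0)).range ∣ 2 := by
      refine (Subgroup.card_subgroup_dvd_card _).trans (dvd_of_eq ?_)
      rw [IsCyclic.card_mulAut, Nat.card_zpowers, T.order_y0]
      decide
    refine ((Nat.dvd_prime Nat.prime_two).1 hd).resolve_left fun h => ?_
    rw [← Subgroup.index_ker, hk, Subgroup.index_eq_one] at h
    have hcc : (⟨c, hcN⟩ : ↥N) ∈ (Subgroup.centralizer
        ((Subgroup.zpowers T.y0 : Subgroup G) : Set G)).subgroupOf N := by rw [h]; trivial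
    rw [Subgroup.mem_subgroupOf, Subgroup.mem_centralizer_iff] at hcc
    have h1 : c * T.y0 = T.y0 * c := (hcc T.y0 (Subgroup.mem_zpowers _)).symm
    rw [h1, mul_inv_cancel_right] at hc
    have h2 : T.y0 ^ 2 = 1 := by rw [pow_two]; exact eq_inv_iff_mul_eq_one.1 hc
    have := orderOf_dvd_of_pow_eq_one h2
    rw [T.order_y0] at this
    norm_num at this

end Cfsg.Lib.Extra.SuzThree
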