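import Cfsg.Agent.Lib.Extra.SuzThree.Product
import Cfsg.Agent.Lib.Extra.SuzLocal.CQuot
import Cfsg.Agent.Lib.Extra.Wide.Cross

/-!
# The centralizer of the first element modulo itself has the local structure of U₄(3)
-/

set_option autoImplicit false
set_option maxRecDepth 10000
set_option linter.style.haveILetI false

namespace Cfsg.Lib.Extra.SuzThree

open Cfsg Module Cfsg.Lib.Linear Cfsg.Lib.Linear.Orth Cfsg.Lib.Extra.Wide Cfsg.Lib.Extra.SuzLocal
open Cfsg.Lib.UFourThreeLocal (sMul sMul_lt Comp)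
open scoped Matrix

variable {G : Type*} [Group G] {ι : Type} [Fintype ι] [DecidableEq ι] {D : Data G ι}

theorem cmk_congr {d a b : G} {ha : Commute a d} {hb : Commute b d} (h : a = b) : cmk ha = cmk hb := by
  subst h; rfl

theorem cmk_mul_congr {d a b c : G} {ha : Commute a d} {hb : Commute b d} {hc : Commute c d}
    (h : a * b = c) : cmk ha * cmk hb = cmk hc := by
  rw [cmk_mul]; exact cmk_congr h

theorem cmk_comm {d a b : G} {ha : Commute a d} {hb : Commute b d} (h : Commute a b) :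
    Commute (cmk ha) (cmk hb) := by
  show cmk ha * cmk hb = cmk hb * cmk ha
  rw [cmk_mul, cmk_mul]; exact cmk_congr h.eq

theorem odd_three : Odd 3 := by decide

theorem zpow_three {y : G} (hy : y ^ 3 = 1) (i : ℤ) : ∃ l < 3, y ^ i = y ^ l := by
  refine ⟨(i % 3).toNat, by omega, ?_⟩
  have h0 := Int.emod_nonneg i (show (3 : ℤ) ≠ 0 by norm_num)
  conv_lhs => rw [← Int.emod_add_mul_ediv i 3, zpow_add, zpow_mul,
    show y ^ (3 : ℤ) = 1 by rw [show (3 : ℤ) = ((3 : ℕ) : ℤ) from rfl, zpow_natCast, hy], one_zpow, mul_one,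
    ← Int.toNat_of_nonneg h0, zpow_natCast]

theorem u_codes : key [1, 2] ≠ key [] ∧ sMul 1 4 = 5 ∧ wM R0 20 = 20 := by decide +kernel

theorem low_lt : ∀ a < 8, ∀ b < 8, sMul a b < 8 ∧ sMul (sMul a a) (sMul a a) = 0 := by decide +kernel

namespace Tri

variable (T : Tri D)

theorem order_y0 : orderOf T.y0 = 3 := by
  haveI : Fact (Nat.Prime 3) := ⟨Nat.prime_three⟩
  refine orderOf_eq_prime T.cube0 fun e => u_codes.1 ?_
  exact T.K.key_eq (u := R0) (w := []) good_words.1 rfl (by rw [← T.act0, e, D.act_one]; rfl)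

/-- The image of the central involution. -/
def zbar : CQ T.y0 := cmk T.z0.symm

theorem u_y0 (a b : ℕ) : Commute (T.u1 a * T.u2 b) T.y0 := T.low_fix.symm

/-- The first copy in the quotient. -/
noncomputable def U1 (n : ℕ) : CQ T.y0 := cmk (T.comm_y0 n).1.symm

/-- The second copy in the quotient. -/
noncomputable def U2 (n : ℕ) : CQ T.y0 := cmk (T.comm_y0 n).2.symm

theorem U_mul (a b : ℕ) : T.U1 a * T.U2 b = cmk (T.u_y0 a b) := rfl

theorem pow_four {a : G} (h : a ^ 4 = 1) {i : ℤ} (hy : Commute a T.y0) {b : G} (e : b = a * T.y0 ^ i)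
    (hb : b ^ 4 = 1) : b = a := by
  rw [e, (hy.zpow_right i).mul_pow, h, one_mul] at hb
  obtain ⟨l, hl, hl'⟩ := zpow_three T.cube0 i
  rw [hl', ← pow_mul, ← orderOf_dvd_iff_pow_eq_one, T.order_y0] at hb
  rw [e, hl', show l = 0 by omega, pow_zero, mul_one]

theorem cmk_inj_four {a b : G} (ha : Commute a T.y0) (hb : Commute b T.y0) (ha4 : a ^ 4 = 1)
    (hb4 : b ^ 4 = 1) (e : cmk ha = cmk hb) : a = b := by
  obtain ⟨i, hi⟩ := (cmk_eq ha hb).1 e
  exact (T.pow_four ha4 ha hi hb4).symm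

theorem u_sep {a b : ℕ} (ha : a < 24) (hb : b < 24) {i : ℤ} (h : T.u1 a * T.u2 b = T.y0 ^ i) :
    a < 8 ∧ b < 8 ∧ T.u1 a * T.u2 b = 1 := by
  obtain ⟨l, hl, hl'⟩ := zpow_three T.cube0 i
  rw [hl'] at h
  have e := congrArg D.act h
  rw [T.u_act, D.act_pow T.z0, T.act0, ← T.K.W_rep] at e
  have k := T.K.key_eq (good_eW _ _ _) (good_rep good_words.1 _) e
  have hs := List.all_eq_true.1 (List.all_eq_true.1 (List.all_eq_true.1 rot_sep (a / 8) (List.mem_range.2 (by omega)))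
    (b / 8) (List.mem_range.2 (by omega))) l (List.mem_range.2 hl)
  simp only [k, Nat.beq_refl, Bool.not_true, Bool.false_or, Bool.and_eq_true, Nat.beq_eq] at hs
  exact ⟨by omega, by omega, by rw [h, hs.2, pow_zero]⟩

theorem exists_lift_zbar {c : CQ T.y0} (h : Commute c T.zbar) :
    ∃ (g : G) (hg : Commute g T.y0), Commute g D.z ∧ cmk hg = c := by
  obtain ⟨g, hg, rfl⟩ := cmk_surj c
  exact ⟨g, hg, cmk_commute T.order_y0 odd_three hg T.z0.symm D.ctx.sq_z h, rfl⟩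

theorem inP_U {g : G} (hg : Commute g T.y0) (h : ∃ l : ℕ, ∃ x, T.InP x ∧ g = T.y0 ^ l * x) :
    ∃ p < 24, ∃ q < 24, cmk hg = T.U1 p * T.U2 q := by
  obtain ⟨l, x, ⟨p, hp, q, hq, rfl⟩, e⟩ := h
  refine ⟨p, hp, q, hq, ?_⟩
  rw [T.U_mul, cmk_eq]
  refine ⟨-(l : ℤ), ?_⟩
  rw [e, zpow_neg, zpow_natCast, ((T.u_y0 p q).pow_right l).symm.eq, mul_inv_cancel_right]

theorem U_norm {c : CQ T.y0} {a b : ℕ} (hc : Commute c T.zbar) (ha : a < 24) (hb : b < 24) :
    ∃ p < 24, ∃ q < 24, c * (T.U1 a * T.U2 b) * c⁻¹ = T.U1 p * T.U2 q := by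
  obtain ⟨g, hg, hgz, rfl⟩ := T.exists_lift_zbar hc
  have hdy : Commute (g * (T.u1 a * T.u2 b) * g⁻¹) T.y0 := (hg.mul_left (T.u_y0 a b)).mul_left hg.inv_left
  have hdz : Commute (g * (T.u1 a * T.u2 b) * g⁻¹) D.z := (hgz.mul_left (T.u_z a b)).mul_left hgz.inv_left
  obtain ⟨i, hi, e⟩ := T.exists_word hgz hg
  have hcheck := List.all_eq_true.1 (List.all_eq_true.1 (List.all_eq_true.1 conj_check i hi) (a / 8)
    (List.mem_range.2 (by omega))) (b / 8) (List.mem_range.2 (by omega))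
  simp only [List.any_eq_true, List.mem_range, Nat.beq_eq] at hcheck
  obtain ⟨k, hk, n, hn, he⟩ := hcheck
  rw [T.U_mul, show cmk hg * cmk (T.u_y0 a b) * (cmk hg)⁻¹ = cmk hdy from rfl]
  refine T.inP_U hdy ⟨0, T.of_rot hdz hdy hk hn ?_⟩
  rw [D.act_mul _ _ (hgz.mul_left (T.u_z a b)) hgz.inv_left, D.act_mul _ _ hgz (T.u_z a b), D.act_inv hgz, e,
    T.u_act, ← T.K.W_append, T.K.W_eq (good_append.2 ⟨good_wd _, good_eW _ _ _⟩)
      (good_append.2 ⟨good_eW _ _ _, good_wd _⟩) he, T.K.W_append, mul_inv_cancel_right]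

theorem U_odd {c : CQ T.y0} (hc : Commute c T.zbar) (ho : Odd (orderOf c)) :
    ∃ p < 24, ∃ q < 24, c = T.U1 p * T.U2 q := by
  obtain ⟨g, hg, hgz, rfl⟩ := T.exists_lift_zbar hc
  obtain ⟨i, hi, e⟩ := T.exists_word hgz hg
  have k := List.all_eq_true.1 four_check i hi
  simp only [List.any_eq_true, List.mem_range, Nat.beq_eq] at k
  obtain ⟨l, -, k, hk, n, hn, he⟩ := k
  have gw := good_wd i
  have h4 : D.act (g ^ 4) = T.K.W (eW l k n) := by
    rw [← T.K.W_eq (good_append.2 ⟨gw, good_append.2 ⟨gw, good_append.2 ⟨gw, gw⟩⟩⟩) (good_eW _ _ _) he,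
      T.K.W_append, T.K.W_append, T.K.W_append, D.act_pow hgz, e]
    simp [pow_succ, mul_assoc]
  obtain ⟨x, hx, ex⟩ := T.of_rot (hgz.pow_left 4) (hg.pow_left 4) hk hn h4
  obtain ⟨p, hp, q, hq, e4⟩ := T.inP_U (hg.pow_left 4) ⟨l, x, hx, ex⟩
  rw [← cmk_pow hg] at e4
  obtain ⟨m, hm⟩ := exists_pow_eq_self_of_coprime (x := cmk hg) (n := 4) (by
    rw [show (4 : ℕ) = 2 ^ 2 from rfl]
    exact (Nat.coprime_two_left.2 ho).pow_left 2)
  rw [e4, T.U_mul, cmk_pow] at hm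
  have hpow : ∀ m : ℕ, T.InP ((T.u1 p * T.u2 q) ^ m) := fun m => by
    induction m with
    | zero => exact ⟨0, by norm_num, 0, by norm_num, by rw [pow_zero, T.u1_zero, T.u2_zero, mul_one]⟩
    | succ m ih => rw [pow_succ]; exact T.inP_mul ih ⟨p, hp, q, hq, rfl⟩
  obtain ⟨p', hp', q', hq', ee⟩ := T.inP_U ((T.u_y0 p q).pow_left m) ⟨0, _, hpow m, by rw [pow_zero, one_mul]⟩
  exact ⟨p', hp', q', hq', hm.symm.trans ee⟩

theorem u_four {p r : ℕ} (hp : p < 8) (hr : r < 8) : (T.u1 p * T.u2 r) ^ 4 = 1 := q_four (T.low_mem hp hr)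

theorem U_self {c : CQ T.y0} (hc : Commute c T.zbar)
    (hall : ∀ p < 8, ∀ q < 8, Commute c (T.U1 p * T.U2 q)) : c = 1 ∨ c = T.zbar := by
  obtain ⟨g, hg, hgz, rfl⟩ := T.exists_lift_zbar hc
  have hcomm : ∀ p < 8, ∀ q < 8, Commute g (T.u1 p * T.u2 q) := fun p hp q hq => by
    refine mul_inv_eq_iff_eq_mul.1 (T.cmk_inj_four ((hg.mul_left (T.u_y0 p q)).mul_left hg.inv_left) (T.u_y0 p q)
      (q_four (D.conj_mem hgz (T.low_mem hp hq))) (T.u_four hp hq) ?_)
    rw [show cmk ((hg.mul_left (T.u_y0 p q)).mul_left hg.inv_left) = cmk hg * (T.U1 p * T.U2 q) * (cmk hg)⁻¹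
      from rfl, (hall p hp q hq).eq, mul_inv_cancel_right]
    rfl
  obtain ⟨i, hi, e⟩ := T.exists_word hgz hg
  have hfix : ∀ {p r x}, p < 8 → r < 8 → x < 64 → (4 * (p % 4)) ^^^ (16 * (r % 4)) = x → wM (wd i) x = x :=
    fun {p r x} hp hr hx ex => by
      have h := D.fix_of_commute hgz (T.low_mem hp hr) (hcomm p hp r hr)
      rw [T.low_cls hp hr, ex, e, T.K.W_act (good_wd i) hx] at h
      exact T.K.inj (wM_lt (good_wd i) hx) hx h
  have k := List.all_eq_true.1 fix_check i hi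
  simp only [hfix (p := 1) (r := 0) (x := 4) (by norm_num) (by norm_num) (by norm_num) rfl,
    hfix (p := 2) (r := 0) (x := 8) (by norm_num) (by norm_num) (by norm_num) rfl,
    hfix (p := 0) (r := 1) (x := 16) (by norm_num) (by norm_num) (by norm_num) rfl,
    hfix (p := 0) (r := 2) (x := 32) (by norm_num) (by norm_num) (by norm_num) rfl,
    Nat.beq_refl, Bool.and_self, Bool.not_true, Bool.false_or, List.any_eq_true, List.mem_range, Nat.beq_eq] at k
  obtain ⟨l, -, he⟩ := k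
  have hq : (T.y0 ^ l)⁻¹ * g ∈ D.Q := (D.act_ker _ ((T.z0.pow_left l).inv_left.mul_left hgz)).1 (by
    rw [D.act_mul _ _ (T.z0.pow_left l).inv_left hgz, D.act_inv (T.z0.pow_left l), D.act_pow T.z0, T.act0,
      ← T.K.W_rep, e, T.K.W_eq (good_wd i) (good_rep good_words.1 l) he, inv_mul_cancel])
  set w := (T.y0 ^ l)⁻¹ * g with hw
  have hwy : Commute w T.y0 := (((Commute.refl T.y0).pow_left l).inv_left).mul_left hg
  have h0 : D.cls w = 0 := T.K.perp_zero (by rw [← T.act0]; exact D.fix_of_commute T.z0 hq hwy.symm) fun a ha => by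
    obtain ⟨p, hp, r, hr, ea⟩ : ∃ p < 8, ∃ r < 8, (4 * (p % 4)) ^^^ (16 * (r % 4)) = a := by
      simp only [List.mem_cons, List.not_mem_nil, or_false] at ha
      rcases ha with rfl | rfl | rfl | rfl
      exacts [⟨1, by norm_num, 0, by norm_num, rfl⟩, ⟨2, by norm_num, 0, by norm_num, rfl⟩,
        ⟨0, by norm_num, 1, by norm_num, rfl⟩, ⟨0, by norm_num, 2, by norm_num, rfl⟩]
    rw [← ea, ← T.low_cls hp hr, ← D.cls_comm w hq _ (T.low_mem hp hr)]
    exact (((T.u_y0 p r).symm.pow_left l).inv_left).mul_left (hcomm p hp r hr)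
  have eg : g = w * T.y0 ^ (l : ℤ) := by
    rw [zpow_natCast, (hwy.pow_right l).eq, hw, mul_inv_cancel_left]
  rcases (D.cls_ker w hq).1 h0 with e' | e'
  · left
    exact (cmk_one hg).2 ⟨l, by rw [eg, e', one_mul]⟩
  · right
    exact ((cmk_eq T.z0.symm hg).2 ⟨l, by rw [eg, e']⟩).symm

variable [Finite G]

omit [Finite G] in
theorem point : D.Point (T.u1 1 * T.u2 1) := by
  have hcls := T.low_cls (p := 1) (r := 1) (by norm_num) (by norm_num)
  have hne : D.cls (T.u1 1 * T.u2 1) ≠ 0 := fun e => by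
    rw [hcls] at e
    have := T.K.code_eq_zero (low_codes 1 (by norm_num) 1 (by norm_num)).1 e
    norm_num at this
  refine ⟨T.low_mem (by norm_num) (by norm_num), ?_, fun e => hne (by rw [e, D.cls_one]),
    fun e => hne (by rw [e, D.cls_z])⟩
  rw [D.cls_sq _ (T.low_mem (by norm_num) (by norm_num)), hcls, T.K.q (by decide)]
  rfl

theorem U_fused : ∃ g : CQ T.y0, (∃ p < 8, ∃ q < 8, g * T.zbar * g⁻¹ = T.U1 p * T.U2 q) ∧
    g * T.zbar * g⁻¹ ≠ T.zbar := by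
  obtain ⟨r, hr, e⟩ := fused T.cube0 T.z0 T.point (T.u_y0 1 1).symm
  have hc : Commute (r * D.z * r⁻¹) T.y0 := (hr.mul_left T.z0.symm).mul_left hr.inv_left
  have e' : r * D.z * r⁻¹ = T.u1 1 * T.u2 5 := by
    rw [e, ← u_codes.2.1, T.mul2 (by norm_num) (by norm_num), T.u2_four, mul_assoc]
  refine ⟨cmk hr, ⟨1, by norm_num, 5, by norm_num, ?_⟩, fun h => ?_⟩
  · show cmk hc = cmk (T.u_y0 1 5)
    exact cmk_congr e'
  · have := cmk_inj_sq T.order_y0 odd_three hc T.z0.symm (by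
      rw [show r * D.z * r⁻¹ * (r * D.z * r⁻¹) = r * (D.z * D.z) * r⁻¹ by group, D.ctx.sq_z]; group)
      D.ctx.sq_z h
    rw [e] at this
    exact T.point.ne_one (mul_eq_right.1 this)

theorem U_inter (g : CQ T.y0) (h : ∃ p < 8, ∃ q < 8, g * T.zbar * g⁻¹ = T.U1 p * T.U2 q)
    (hne : g * T.zbar * g⁻¹ ≠ T.zbar) :
    {x : CQ T.y0 | (∃ p < 8, ∃ q < 8, x = T.U1 p * T.U2 q) ∧
      ∃ p < 8, ∃ q < 8, x = g * (T.U1 p * T.U2 q) * g⁻¹}.ncard = 4 := by
  classical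
  obtain ⟨p0, hp0, q0, hq0, e0⟩ := h
  obtain ⟨g, hg, rfl⟩ := cmk_surj g
  set t := g * D.z * g⁻¹ with ht
  have hty : Commute t T.y0 := (hg.mul_left T.z0.symm).mul_left hg.inv_left
  have hz4 : D.z ^ 4 = 1 := q_four D.ctx.mem
  have et : t = T.u1 p0 * T.u2 q0 := T.cmk_inj_four hty (T.u_y0 p0 q0) (by rw [ht, conj_pow, hz4]; group)
    (T.u_four hp0 hq0) e0
  have htp : D.Point t := ⟨et ▸ T.low_mem hp0 hq0,
    by rw [ht, show g * D.z * g⁻¹ * (g * D.z * g⁻¹) = g * (D.z * D.z) * g⁻¹ by group, D.ctx.sq_z]; group,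
    fun e => D.ctx.ne_one (by rwa [ht, conj_eq_one_iff] at e), fun e => hne ((show cmk hg * T.zbar * (cmk hg)⁻¹ = cmk hty from rfl).trans (cmk_congr e))⟩
  have hlow : ∀ a, a ∈ D.Q → ∀ ha : Commute a T.y0, ∃ p < 8, ∃ q < 8, cmk ha = T.U1 p * T.U2 q := fun a haQ ha => by
    obtain ⟨p, hp, r, hr, e⟩ := T.exists_low haQ ha.symm
    exact ⟨p, hp, r, by omega, cmk_congr (hb := T.u_y0 p r) e⟩
  have hback : ∀ a, a ∈ D.Qof t → ∀ ha : Commute a T.y0,
      ∃ p < 8, ∃ q < 8, cmk ha = cmk hg * (T.U1 p * T.U2 q) * (cmk hg)⁻¹ := fun a haQ ha => by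
    have hmem : g⁻¹ * a * g ∈ D.Q := by rwa [D.Qof_eq ht.symm, mem_map_conj] at haQ
    have hc : Commute (g⁻¹ * a * g) T.y0 := (hg.inv_left.mul_left ha).mul_left hg
    obtain ⟨p, hp, r, hr, e⟩ := T.exists_low hmem hc.symm
    refine ⟨p, hp, r, by omega, ?_⟩
    rw [T.U_mul, ← cmk_congr (ha := hc) e,
      show cmk hg * cmk hc * (cmk hg)⁻¹ = cmk ((hg.mul_left hc).mul_left hg.inv_left) from rfl]
    exact cmk_congr (by group)
  have ztY : Commute (D.z * t) T.y0 := T.z0.symm.mul_left hty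
  have hset : {x : CQ T.y0 | (∃ p < 8, ∃ q < 8, x = T.U1 p * T.U2 q) ∧
      ∃ p < 8, ∃ q < 8, x = cmk hg * (T.U1 p * T.U2 q) * (cmk hg)⁻¹} =
      {cmk (Commute.one_left T.y0), T.zbar, cmk hty, cmk ztY} := by
    ext x
    constructor
    · rintro ⟨⟨p, hp, q, hq, rfl⟩, p', hp', q', hq', e⟩
      have hc : Commute (g * (T.u1 p' * T.u2 q') * g⁻¹) T.y0 := (hg.mul_left (T.u_y0 p' q')).mul_left hg.inv_left
      have ea := T.cmk_inj_four (T.u_y0 p q) hc (T.u_four hp hq) (by rw [conj_pow, T.u_four hp' hq']; group) e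
      have hin : D.InA t (T.u1 p * T.u2 q) := htp.inter (T.low_mem hp hq) (by
        rw [D.Qof_eq ht.symm, mem_map_conj, ea]
        rw [show g⁻¹ * (g * (T.u1 p' * T.u2 q') * g⁻¹) * g = T.u1 p' * T.u2 q' by group]
        exact T.low_mem hp' hq')
      rcases hin with ea | ea | ea | ea
      · exact Or.inl (cmk_congr (ha := T.u_y0 p q) ea)
      · exact Or.inr (Or.inl (cmk_congr (ha := T.u_y0 p q) ea))
      · exact Or.inr (Or.inr (Or.inl (cmk_congr (ha := T.u_y0 p q) ea)))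
      · exact Or.inr (Or.inr (Or.inr (cmk_congr (ha := T.u_y0 p q) ea)))
    · have hq4 : ∀ a, D.InA t a → a ∈ D.Q ∧ a ∈ D.Qof t := fun a ha => htp.inA_mem ha
      rintro (rfl | rfl | rfl | rfl)
      · exact ⟨hlow _ (hq4 _ (Or.inl rfl)).1 _, hback _ (hq4 _ (Or.inl rfl)).2 _⟩
      · exact ⟨hlow _ (hq4 _ (Or.inr (Or.inl rfl))).1 _, hback _ (hq4 _ (Or.inr (Or.inl rfl))).2 _⟩
      · exact ⟨hlow _ (hq4 _ (Or.inr (Or.inr (Or.inl rfl)))).1 _, hback _ (hq4 _ (Or.inr (Or.inr (Or.inl rfl)))).2 _⟩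
      · exact ⟨hlow _ (hq4 _ (Or.inr (Or.inr (Or.inr rfl)))).1 _, hback _ (hq4 _ (Or.inr (Or.inr (Or.inr rfl)))).2 _⟩
  rw [hset]
  have q4 : ∀ {a}, D.InA t a → a ^ 4 = 1 := fun ha => q_four (htp.inA_mem ha).1
  have i0 := q4 (Or.inl rfl : D.InA t 1)
  have i1 := q4 (Or.inr (Or.inl rfl) : D.InA t D.z)
  have i2 := q4 (Or.inr (Or.inr (Or.inl rfl)) : D.InA t t)
  have i3 := q4 (Or.inr (Or.inr (Or.inr rfl)) : D.InA t (D.z * t))
  rw [Set.ncard_insert_of_notMem, Set.ncard_insert_of_notMem, Set.ncard_insert_of_notMem, Set.ncard_singleton]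
  · rw [Set.mem_singleton_iff]
    intro e
    exact D.ctx.ne_one (right_eq_mul.1 (T.cmk_inj_four hty ztY i2 i3 e))
  · simp only [Set.mem_insert_iff, Set.mem_singleton_iff]
    rintro (e | e)
    · exact htp.ne_z (T.cmk_inj_four T.z0.symm hty i1 i2 e).symm
    · exact htp.ne_one (left_eq_mul.1 (T.cmk_inj_four T.z0.symm ztY i1 i3 e))
  · simp only [Set.mem_insert_iff, Set.mem_singleton_iff]
    rintro (e | e | e)
    · exact D.ctx.ne_one (T.cmk_inj_four _ T.z0.symm i0 i1 e).symm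
    · exact htp.ne_one (T.cmk_inj_four _ hty i0 i2 e).symm
    · exact htp.z_mul.ne_one (T.cmk_inj_four _ ztY i0 i3 e).symm

omit [Finite G] in
theorem card_zbar : Nat.card ↥(Subgroup.centralizer ({T.zbar} : Set (CQ T.y0))) = 1152 := by
  classical
  have hl : ∀ j, ∃ c, Commute c D.z ∧ Commute c T.y0 ∧ (j ∈ idx0 → D.act c = T.K.W (wd j)) := fun j => by
    by_cases hj : j ∈ idx0
    · have hji : j ∈ idx := List.mem_of_mem_filter hj
      have hc : Commute (D.act T.y0) (T.K.W (wd j)) := by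
        rw [T.act0]
        refine T.K.W_comm good_words.1 (good_wd j) ?_
        have := List.all_eq_true.1 comm_check j hji
        exact Nat.eq_of_beq_eq_true this
      obtain ⟨c, h1, h2, h3⟩ := lift_comm T.cube0 T.z0 (T.K.W_wd_mem j) hc
      exact ⟨c, h1, h2, fun _ => h3⟩
    · exact ⟨1, Commute.one_left _, Commute.one_left _, fun h => absurd h hj⟩
  choose c hcz hcy hca using hl
  let f : ↥(idx0.toFinset) × (Fin 8 × Fin 4) → ↥(Subgroup.centralizer ({T.zbar} : Set (CQ T.y0))) := fun e =>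
    ⟨cmk ((hcy e.1.1).mul_left (T.u_y0 e.2.1 e.2.2)), Subgroup.mem_centralizer_singleton_iff.2
      (cmk_comm (hb := T.z0.symm) ((hcz e.1.1).mul_left (T.u_z _ _))).eq⟩
  have hact : ∀ j, j ∈ idx0 → ∀ p q : ℕ, p < 8 → q < 8 → D.act (c j * (T.u1 p * T.u2 q)) = T.K.W (wd j) :=
    fun j hj p q hp hq => by
      rw [D.act_mul _ _ (hcz j) (T.u_z p q), D.act_q (T.low_mem hp hq), mul_one, hca j hj]
  have hf : Function.Bijective f := by
    refine ⟨?_, ?_⟩
    · rintro ⟨⟨i, hi⟩, ⟨p, hp⟩, ⟨q, hq⟩⟩ ⟨⟨j, hj⟩, ⟨p', hp'⟩, ⟨q', hq'⟩⟩ e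
      obtain ⟨m, hm⟩ := (cmk_eq ((hcy i).mul_left (T.u_y0 p q)) ((hcy j).mul_left (T.u_y0 p' q'))).1 (congrArg Subtype.val e)
      obtain ⟨l, hl, hl'⟩ := zpow_three T.cube0 m
      try simp only at hm
      rw [hl'] at hm
      rw [List.mem_toFinset] at hi hj
      have hyl := T.z0.pow_left l
      have ea := congrArg D.act hm
      rw [hact j hj p' q' hp' (by omega), D.act_mul _ _ ((hcz i).mul_left (T.u_z p q)) hyl,
        hact i hi p q hp (by omega), D.act_pow T.z0, ← hca i hi, ← D.act_pow T.z0, ← D.act_mul _ _ (hcz i) hyl,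
        ((hcy i).pow_right l).eq, D.act_mul _ _ hyl (hcz i), D.act_pow T.z0, T.act0, ← T.K.W_rep, hca i hi,
        ← T.K.W_append] at ea
      have hk := T.K.key_eq (good_wd j) (good_append.2 ⟨good_rep good_words.1 l, good_wd i⟩) ea
      have hs := List.all_eq_true.1 (List.all_eq_true.1 (List.all_eq_true.1 sep_check j hj) i hi) l
        (List.mem_range.2 hl)
      simp only [hk, Nat.beq_refl, Bool.not_true, Bool.false_or, Bool.and_eq_true, decide_eq_true_eq,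
        Nat.beq_eq] at hs
      obtain ⟨rfl, rfl⟩ := hs
      rw [pow_zero, mul_one] at hm
      obtain ⟨rfl, rfl⟩ := T.low_inj hp hq hp' hq' (mul_left_cancel hm.symm)
      rfl
    · rintro ⟨x, hx⟩
      obtain ⟨g, hg, hgz, rfl⟩ := T.exists_lift_zbar (Subgroup.mem_centralizer_singleton_iff.1 hx)
      obtain ⟨i, hi, e⟩ := T.exists_word hgz hg
      have k := List.all_eq_true.1 split_check i hi
      simp only [List.any_eq_true, List.mem_range, Nat.beq_eq] at k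
      obtain ⟨j, hj, m, -, he⟩ := k
      set w := T.y0 ^ m * c j
      have hwz : Commute w D.z := (T.z0.pow_left m).mul_left (hcz j)
      have hq : w⁻¹ * g ∈ D.Q := (D.act_ker _ (hwz.inv_left.mul_left hgz)).1 (by
        rw [D.act_mul _ _ hwz.inv_left hgz, D.act_inv hwz, D.act_mul _ _ (T.z0.pow_left m) (hcz j),
          D.act_pow T.z0, T.act0, hca j hj, ← T.K.W_rep, ← T.K.W_append, e,
          T.K.W_eq (good_wd i) (good_append.2 ⟨good_rep good_words.1 m, good_wd j⟩) he, inv_mul_cancel])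
      have hwy : Commute w T.y0 := ((Commute.refl T.y0).pow_left m).mul_left (hcy j)
      obtain ⟨p, hp, q, hq', hpq⟩ := T.exists_low hq (hwy.inv_left.mul_left hg).symm
      refine ⟨⟨⟨j, List.mem_toFinset.2 hj⟩, ⟨p, hp⟩, ⟨q, hq'⟩⟩, Subtype.ext ((cmk_eq ((hcy j).mul_left (T.u_y0 p q)) hg).2 ⟨(m : ℤ), ?_⟩)⟩
      show g = c j * (T.u1 p * T.u2 q) * T.y0 ^ (m : ℤ)
      rw [zpow_natCast, (((hcy j).mul_left (T.u_y0 p q)).pow_right m).eq, ← mul_assoc, ← hpq, mul_inv_cancel_left]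
  rw [← Nat.card_eq_of_bijective f hf, Nat.card_prod, Nat.card_prod, Nat.card_fin, Nat.card_fin,
    Nat.card_eq_fintype_card, Fintype.card_coe, List.toFinset_card_of_nodup card_idx0.2, card_idx0.1]

/-- The local structure of U₄(3) in the quotient. -/
theorem exists_comp : Nonempty (Comp T.zbar) := ⟨{
  u₁ := T.U1
  u₂ := T.U2
  mul₁ := fun ha hb => (cmk_mul_congr (T.mul1 ha hb).symm).symm
  mul₂ := fun ha hb => (cmk_mul_congr (T.mul2 ha hb).symm).symm
  zero₁ := (cmk_one _).2 ⟨0, by rw [T.u1_zero, zpow_zero]⟩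
  zero₂ := (cmk_one _).2 ⟨0, by rw [T.u2_zero, zpow_zero]⟩
  four₁ := cmk_congr T.u1_four
  four₂ := cmk_congr T.u2_four
  commute := fun {a b} _ _ => cmk_comm (T.comm_u a b)
  sep := fun {a b} ha hb h => by
    rw [T.U_mul] at h
    obtain ⟨i, hi⟩ := (cmk_one _).1 h
    obtain ⟨ha8, hb8, e⟩ := T.u_sep ha hb hi
    have hc := congrArg D.cls e
    rw [T.low_cls ha8 hb8, D.cls_one] at hc
    obtain ⟨k1, k2, k3⟩ := low_codes a ha8 b hb8
    rw [T.K.code_eq_zero k1 hc] at k2 k3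
    rcases (show a = 0 ∨ a = 4 by omega) with rfl | rfl <;>
      rcases (show b = 0 ∨ b = 4 by omega) with rfl | rfl
    · exact Or.inl ⟨rfl, rfl⟩
    · rw [T.u1_zero, T.u2_four, one_mul] at e; exact absurd e D.ctx.ne_one
    · rw [T.u1_four, T.u2_zero, mul_one] at e; exact absurd e D.ctx.ne_one
    · exact Or.inr ⟨rfl, rfl⟩
  cent₁ := fun {a} _ => cmk_comm (T.base1.u_cent a)
  cent₂ := fun {b} _ => cmk_comm (T.base2.u_cent b)
  norm := fun hc ha hb => T.U_norm hc ha hb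
  odd := fun hc ho => T.U_odd hc ho
  self := fun hc h => T.U_self hc h
  card := T.card_zbar
  fused := T.U_fused
  inter := T.U_inter }⟩

end Tri

end Cfsg.Lib.Extra.SuzThree
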