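import Cfsg.Agent.Lib.UFourThreeLocal.FrameOf

/-!
# A commutator in the group generated by the commutators of the central involution

For an element `a` of order three in one component, two commutators of the central involution with
the centralizer of `a` have a nontrivial power of `a` as their commutator.
-/

set_option autoImplicit false
set_option maxRecDepth 10000
set_option linter.unusedSectionVars false

namespace Cfsg.Lib.Extra.SuzThree

open Subgroup Cfsg.Lib.UFourThreeLocal

attribute [local irreducible] elts mulH conjH invH okH pow16 pow3 pow9 commH eltsS sylS eCodes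

/-- The subgroup generated by the commutators of `z` with the centralizer of `a`. -/
def zGen {H : Type*} [Group H] (z a : H) : Subgroup H :=
  closure {y | ∃ g : H, Commute g a ∧ z * g * z⁻¹ * g⁻¹ = y}

/-- Two of its elements have a nontrivial power of `a` as commutator. -/
def Wit {H : Type*} [Group H] (z a : H) : Prop :=
  ∃ u ∈ zGen z a, ∃ v ∈ zGen z a, u * v * u⁻¹ * v⁻¹ ∈ zpowers a ∧ u * v * u⁻¹ * v⁻¹ ≠ 1

theorem Wit.inv {H : Type*} [Group H] {z a : H} (h : Wit z a) : Wit z a⁻¹ := by
  have e : zGen z a⁻¹ = zGen z a := by simp only [zGen, Commute.inv_right_iff]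
  rwa [Wit, e, zpowers_inv]

theorem Wit.conj {H : Type*} [Group H] {z a : H} (h : Wit z a) {s : H} (hs : Commute s z) :
    Wit z (s * a * s⁻¹) := by
  have hmem : ∀ {y}, y ∈ zGen z a → s * y * s⁻¹ ∈ zGen z (s * a * s⁻¹) := fun {y} hy => by
    induction hy using closure_induction with
    | mem x hx =>
      obtain ⟨g, hg, rfl⟩ := hx
      refine subset_closure ⟨s * g * s⁻¹, (Commute.conj_iff s).2 hg, ?_⟩
      have hsz : s * z * s⁻¹ = z := by rw [hs.eq, mul_inv_cancel_right]
      calc z * (s * g * s⁻¹) * z⁻¹ * (s * g * s⁻¹)⁻¹ =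
            s * z * s⁻¹ * (s * g * s⁻¹) * (s * z * s⁻¹)⁻¹ * (s * g * s⁻¹)⁻¹ := by rw [hsz]
        _ = _ := by group
    | one => simp
    | mul x y _ _ hx hy =>
      rw [show s * (x * y) * s⁻¹ = (s * x * s⁻¹) * (s * y * s⁻¹) by group]
      exact mul_mem hx hy
    | inv x _ hx =>
      rw [show s * x⁻¹ * s⁻¹ = (s * x * s⁻¹)⁻¹ by group]
      exact inv_mem hx
  obtain ⟨u, hu, v, hv, hc, hne⟩ := h
  refine ⟨_, hmem hu, _, hmem hv, ?_, ?_⟩ <;>
    rw [show s * u * s⁻¹ * (s * v * s⁻¹) * (s * u * s⁻¹)⁻¹ * (s * v * s⁻¹)⁻¹ = s * (u * v * u⁻¹ * v⁻¹) * s⁻¹ by group]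
  · obtain ⟨k, hk⟩ := hc
    exact ⟨k, by show (s * a * s⁻¹) ^ k = _; rw [conj_zpow]; exact congrArg (fun w => s * w * s⁻¹) hk⟩
  · exact fun e => hne (conj_eq_one_iff.1 e)

theorem three_check : (elts.all fun h => !(Nat.beq (pow3 h) 0) || Nat.beq h 0 || !(elts.any fun g =>
    Nat.beq (mulH g g) 4 && commH h g) || elts.any fun x =>
      Nat.beq (conjH x 192) h || Nat.beq (conjH x 384) h) = true := by
  with_unfolding_all decide +kernel

variable {H : Type*} [Group H] [Finite H] {z : H} (L : Loc z)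

theorem wit_base : Wit z (L.ψ 192) := by
  obtain ⟨l, X⟩ := L.exists_axis
  obtain ⟨c, hc, e, -, -, hb⟩ := X.a2_x
  refine ⟨l, X.mem_zComm, _, X.x_mem, ?_⟩
  have hcc : l * (L.ψ 1 * l * (L.ψ 1)⁻¹) * l⁻¹ * (L.ψ 1 * l * (L.ψ 1)⁻¹)⁻¹ = c := by rw [e]; group
  rw [hcc]
  exact ⟨hc, X.not_one e hb⟩

include L in
/-- An element of order three commuting with a square root of `z` has such a commutator. -/
theorem wit_of_root {a q : H} (haz : Commute a z) (ha : a ^ 3 = 1) (ha1 : a ≠ 1) (hq : q * q = z)
    (haq : Commute a q) : Wit z a := by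
  have hqz : Commute q z := by rw [← hq]; exact (Commute.refl q).mul_right (Commute.refl q)
  have oh := L.code_ok haz
  have og := L.code_ok hqz
  have h3 : pow3 (L.code haz) = 0 := by
    rw [show pow3 (L.code haz) = mulH (mulH (L.code haz) (L.code haz)) (L.code haz) by with_unfolding_all rfl]
    refine L.inj (L.ok (L.ok oh oh) oh) (by with_unfolding_all decide) ?_
    rw [L.mul (L.ok oh oh) oh, L.mul oh oh, L.psi_code, L.psi_zero, ← ha, pow_succ, pow_two]
  have h0 : L.code haz ≠ 0 := fun e => ha1 (by rw [← L.psi_code haz, e, L.psi_zero])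
  have h4 : mulH (L.code hqz) (L.code hqz) = 4 := L.inj (L.ok og og) (by with_unfolding_all decide) (by
    rw [L.mul og og, L.psi_code, L.z_eq, hq])
  have hc : commH (L.code haz) (L.code hqz) = true :=
    (L.psi_comm oh og).1 (by rw [L.psi_code, L.psi_code]; exact haq)
  have k := elts_spec three_check oh
  simp only [h3, Nat.beq_refl, Bool.not_true, Bool.false_or, Bool.or_eq_true, Nat.beq_eq, Bool.not_eq_true'] at k
  rcases k with (e | e) | e
  · exact absurd e h0
  · exfalso
    rw [← Bool.not_eq_true, List.any_eq_true] at e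
    exact e ⟨_, mem_elts.2 og, by rw [h4, hc]; rfl⟩
  · obtain ⟨x, hx, hxe⟩ := List.any_eq_true.1 e
    have ox := mem_elts.1 hx
    have o192 := Loc.ok_quat (h := 192) (by decide)
    have o384 : okH 384 = true := by with_unfolding_all decide
    have e384 : L.ψ 384 = (L.ψ 192)⁻¹ := by
      refine eq_inv_of_mul_eq_one_right ?_
      rw [L.mul_eq o192 o384 (show mulH 192 384 = 0 by with_unfolding_all decide +kernel), L.psi_zero]
    rw [Bool.or_eq_true, Nat.beq_eq, Nat.beq_eq] at hxe
    rw [← L.psi_code haz]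
    rcases hxe with e' | e'
    · rw [← L.conj_eq ox o192 e']; exact (wit_base L).conj (L.cent ox)
    · rw [← L.conj_eq ox o384 e', e384]; exact (wit_base L).inv.conj (L.cent ox)

end Cfsg.Lib.Extra.SuzThree
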