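import Cfsg.Agent.Lib.Extra.SuzThree.Cent
import Cfsg.Agent.Lib.Extra.SuzThree.Witness
import Cfsg.Agent.Lib.UFourThreeRecog.OfFrame
import Cfsg.Agent.Lib.Linear.PSUSimple

/-!
# The centralizer of the first element is perfect
-/

set_option autoImplicit false
set_option maxRecDepth 10000
set_option linter.style.haveILetI false
set_option linter.unusedSectionVars false

namespace Cfsg.Lib.Extra.SuzThree

open Cfsg Module Cfsg.Lib.Linear Cfsg.Lib.Linear.Orth Cfsg.Lib.Extra.Wide Cfsg.Lib.Extra.SuzLocal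
open Subgroup
open scoped Matrix

variable {G : Type*} [Group G] {ι : Type} [Fintype ι] [DecidableEq ι] {D : Data G ι}

/-- The derived subgroup of the centralizer of an element. -/
def cDer (y : G) : Subgroup G := ⁅centralizer ({y} : Set G), centralizer ({y} : Set G)⁆

theorem cDer_mem {y a b : G} (ha : Commute a y) (hb : Commute b y) : a * b * a⁻¹ * b⁻¹ ∈ cDer y := by
  have h := commutator_mem_commutator (mem_centralizer_singleton_iff.2 ha.eq : a ∈ centralizer ({y} : Set G))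
    (mem_centralizer_singleton_iff.2 hb.eq : b ∈ centralizer ({y} : Set G))
  rwa [commutatorElement_def] at h

theorem cDer_comm {y x : G} (hx : x ∈ cDer y) : Commute x y :=
  mem_centralizer_singleton_iff.1 ((commutator_le.2 fun a ha b hb => by
    rw [commutatorElement_def]
    exact mul_mem (mul_mem (mul_mem ha hb) (inv_mem ha)) (inv_mem hb) :
      cDer y ≤ centralizer ({y} : Set G)) hx)

theorem cDer_conj {y g x : G} (hg : Commute g y) (hx : x ∈ cDer y) : g * x * g⁻¹ ∈ cDer y := by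
  have h := mul_mem (cDer_mem hg (cDer_comm hx)) hx
  rwa [inv_mul_cancel_right] at h

theorem cDer_map {y y' c : G} (h : c * y * c⁻¹ = y') {x : G} (hx : x ∈ cDer y) :
    c * x * c⁻¹ ∈ cDer y' := by
  have hle : (cDer y).map (MulAut.conj c).toMonoidHom ≤ cDer y' := by
    rw [cDer, map_commutator]
    have hc : (centralizer ({y} : Set G)).map (MulAut.conj c).toMonoidHom ≤ centralizer ({y'} : Set G) := by
      rintro _ ⟨a, ha, rfl⟩
      refine mem_centralizer_singleton_iff.2 ?_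
      show c * a * c⁻¹ * y' = y' * (c * a * c⁻¹)
      rw [← h]
      exact ((Commute.conj_iff c).2 (mem_centralizer_singleton_iff.1 ha : Commute a y)).eq
    exact commutator_mono hc hc
  exact hle ⟨x, hx, rfl⟩

namespace Tri

variable (T : Tri D)

/-- The commutators of `z` with the common centralizer of the first two elements. -/
def oGrp : Subgroup G := Subgroup.closure {w | ∃ g, Commute g T.y0 ∧ Commute g T.y1 ∧ D.z * g * D.z⁻¹ * g⁻¹ = w}

theorem oGrp_swap : T.swap.oGrp = T.oGrp :=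
  congrArg Subgroup.closure (Set.ext fun _ => exists_congr fun _ => and_left_comm)

theorem oGrp_mem {w : G} (hw : w ∈ T.oGrp) : Commute w T.y0 ∧ w ∈ cDer T.y0 := by
  induction hw using closure_induction with
  | mem x hx =>
    obtain ⟨g, hg, -, rfl⟩ := hx
    exact ⟨((T.z0.symm.mul_left hg).mul_left T.z0.symm.inv_left).mul_left hg.inv_left, cDer_mem T.z0.symm hg⟩
  | one => exact ⟨Commute.one_left _, one_mem _⟩
  | mul x y _ _ hx hy => exact ⟨hx.1.mul_left hy.1, mul_mem hx.2 hy.2⟩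
  | inv x _ hx => exact ⟨hx.1.inv_left, inv_mem hx.2⟩

theorem oGrp_comm {w : G} (hw : w ∈ T.oGrp) : Commute w T.y0 := (T.oGrp_mem hw).1

variable [Finite G]

theorem exists_iso : Nonempty (CQ T.y0 ≃* ↥Cfsg.Lib.SUSixU43.Q112) := by
  obtain ⟨L⟩ := UFourThreeLocal.loc_of_comp T.exists_comp
  obtain ⟨F, hF⟩ := L.exists_frame
  exact UFourThreeRecog.Frame.iso_of_frame hF

theorem card_CQ : Nat.card (CQ T.y0) = 2 ^ 7 * 3 ^ 6 * 5 * 7 := by
  obtain ⟨e⟩ := T.exists_iso
  exact (Nat.card_congr e.toEquiv).trans UFourThreeRecog.card_model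

theorem simple_CQ : IsSimpleGroup (CQ T.y0) := by
  haveI : Fintype (GaloisField 3 2) := Fintype.ofFinite _
  have hK : Fintype.card (GaloisField 3 2) = 9 := by
    rw [← Nat.card_eq_fintype_card, GaloisField.card 3 2 (by norm_num)]; norm_num
  obtain ⟨e⟩ := UFourThreeRecog.iso_psu_of_model T.exists_iso (GaloisField 3 2) hK
  haveI := Cfsg.Lib.Linear.Herm.psu_simple (F := GaloisField 3 2) (q := 3) (n := 4) (by rw [hK]; norm_num) le_rfl
  exact e.isSimpleGroup

theorem noncomm_CQ : center (CQ T.y0) = ⊥ ∧ commutator (CQ T.y0) = ⊤ := by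
  haveI := T.simple_CQ
  have hne : center (CQ T.y0) ≠ ⊤ := fun h => by
    have hc : centralizer ({T.zbar} : Set (CQ T.y0)) = ⊤ := eq_top_iff.2 fun x _ =>
      mem_centralizer_singleton_iff.2 (mem_center_iff.1 (h ▸ mem_top T.zbar) x)
    have := T.card_zbar
    rw [hc, Subgroup.card_top, T.card_CQ] at this
    norm_num at this
  refine ⟨((inferInstance : (center (CQ T.y0)).Normal).eq_bot_or_eq_top).resolve_right hne,
    ((inferInstance : (commutator (CQ T.y0)).Normal).eq_bot_or_eq_top).resolve_left fun h => hne ?_⟩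
  exact (commutator_eq_bot_iff_center_eq_top _).1 h

theorem cover {g : G} (hg : Commute g T.y0) : ∃ x ∈ cDer T.y0, ∃ i : ℤ, g = x * T.y0 ^ i := by
  set C := centralizer ({T.y0} : Set G)
  have hmap : (commutator ↥C).map (QuotientGroup.mk' (selfGrp T.y0)) = ⊤ := by
    rw [commutator_def, map_commutator, ← MonoidHom.range_eq_map,
      MonoidHom.range_eq_top.2 (QuotientGroup.mk'_surjective _), ← commutator_def, T.noncomm_CQ.2]
  obtain ⟨⟨x, hxC⟩, hx, e⟩ := hmap.symm ▸ mem_top (cmk hg)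
  have hxd : x ∈ cDer T.y0 := by
    rw [cDer, ← map_subtype_commutator]
    exact ⟨⟨x, hxC⟩, hx, rfl⟩
  obtain ⟨i, hi⟩ := (cmk_eq (cDer_comm hxd) hg).1 e
  exact ⟨x, hxd, i, hi⟩

variable (hy : T.y0 ∉ cDer T.y0)
include hy

theorem zpow_der {i : ℤ} (h : T.y0 ^ i ∈ cDer T.y0) : T.y0 ^ i = 1 := by
  obtain ⟨l, hl, e⟩ := zpow_three T.cube0 i
  rw [e] at h ⊢
  interval_cases l
  · rw [pow_zero]
  · exact absurd (by simpa using h) hy
  · refine absurd ?_ hy
    have : T.y0 = (T.y0 ^ 2) * (T.y0 ^ 2) := by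
      rw [← pow_add, pow_succ, T.cube0, one_mul]
    have hm := mul_mem h h
    rwa [← this] at hm

theorem four_mem {g : G} (hg : Commute g T.y0) (h4 : g ^ 4 = 1) : g ∈ cDer T.y0 := by
  obtain ⟨x, hx, i, e⟩ := T.cover hg
  have h3 : g ^ 3 ∈ cDer T.y0 := by
    rw [e, ((cDer_comm hx).zpow_right i).mul_pow, ← zpow_natCast (T.y0 ^ i), ← zpow_mul, mul_comm i, zpow_mul,
      zpow_natCast, T.cube0, one_zpow, mul_one]
    exact pow_mem hx 3
  have e' : g = (g ^ 3)⁻¹ := eq_inv_of_mul_eq_one_left (by rw [← pow_succ', h4])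
  rw [e']
  exact inv_mem h3

theorem y1_mem : T.y1 ∈ cDer T.y0 := by
  obtain ⟨g0, g1, -, g3, -, -, -⟩ := good_words
  obtain ⟨-, -, -, -, -, -, c0, c1, -, -⟩ := rot_facts
  obtain ⟨m, hmz, hmy, hma⟩ := lift_comm T.cube0 T.z0 (T.K.W_omega g3 (by decide))
    (by rw [T.act0]; exact (T.K.W_comm g3 g0 c0).symm)
  set d := m * T.y1 * m⁻¹ with hd
  have hdy : Commute d T.y0 := (hmy.mul_left T.c01.symm).mul_left hmy.inv_left
  have hdz : Commute d D.z := (hmz.mul_left T.z1).mul_left hmz.inv_left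
  have hda : D.act d = D.act (T.y1 ^ 2) := by
    rw [hd, D.act_mul _ _ (hmz.mul_left T.z1) hmz.inv_left, D.act_mul _ _ hmz T.z1, D.act_inv hmz,
      D.act_pow T.z1, hma, T.act1, ← T.K.W_append, T.K.W_eq (good_append.2 ⟨g3, g1⟩)
        (good_append.2 ⟨good_rep g1 2, g3⟩) c1, T.K.W_append, T.K.W_rep, mul_inv_cancel_right]
  have h2z := T.z1.pow_left 2
  have hq : (T.y1 ^ 2)⁻¹ * d ∈ D.Q := (D.act_ker _ (h2z.inv_left.mul_left hdz)).1 (by
    rw [D.act_mul _ _ h2z.inv_left hdz, D.act_inv h2z, hda, inv_mul_cancel])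
  have hqd := T.four_mem hy ((T.c01.symm.pow_left 2).inv_left.mul_left hdy) (q_four hq)
  have h1 := cDer_conj T.c01.symm hqd
  have h2 := cDer_mem hmy T.c01.symm
  rw [← hd, show d * T.y1⁻¹ = T.y1 * (T.y1 * ((T.y1 ^ 2)⁻¹ * d) * T.y1⁻¹) by rw [pow_two]; group] at h2
  exact (mul_mem_cancel_right h1).1 h2

theorem lift_oGrp {w : CQ T.y0} (hw : w ∈ zGen T.zbar (cmk T.c01.symm)) :
    ∃ v ∈ T.oGrp, ∃ hv : Commute v T.y0, cmk hv = w := by
  induction hw using closure_induction with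
  | mem x hx =>
    obtain ⟨gb, hgb, rfl⟩ := hx
    obtain ⟨g, hg, rfl⟩ := cmk_surj gb
    have hc : Commute (g * T.y1 * g⁻¹) T.y0 := (hg.mul_left T.c01.symm).mul_left hg.inv_left
    have e : cmk T.c01.symm = cmk hc := by
      rw [show cmk hc = cmk hg * cmk T.c01.symm * (cmk hg)⁻¹ from rfl, hgb.eq, mul_inv_cancel_right]
    obtain ⟨i, hi⟩ := (cmk_eq _ _).1 e
    have hm := cDer_conj hg (T.y1_mem hy)
    rw [hi] at hm
    have hi1 := T.zpow_der hy ((mul_mem_cancel_left (T.y1_mem hy)).1 hm)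
    rw [hi1, mul_one] at hi
    refine ⟨D.z * g * D.z⁻¹ * g⁻¹, subset_closure ⟨g, hg, mul_inv_eq_iff_eq_mul.1 hi, rfl⟩,
      ((T.z0.symm.mul_left hg).mul_left T.z0.symm.inv_left).mul_left hg.inv_left, rfl⟩
  | one => exact ⟨1, one_mem _, Commute.one_left _, (cmk_one _).2 ⟨0, (zpow_zero _).symm⟩⟩
  | mul x y _ _ hx hy' =>
    obtain ⟨a, ha, ha', rfl⟩ := hx
    obtain ⟨b, hb, hb', rfl⟩ := hy'
    exact ⟨a * b, mul_mem ha hb, ha'.mul_left hb', rfl⟩
  | inv x _ hx =>
    obtain ⟨a, ha, ha', rfl⟩ := hx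
    exact ⟨a⁻¹, inv_mem ha, ha'.inv_left, rfl⟩

theorem y1_commutator : T.y1 ∈ ⁅T.oGrp, T.oGrp⁆ := by
  haveI : Fact (Nat.Prime 3) := ⟨Nat.prime_three⟩
  obtain ⟨L⟩ := UFourThreeLocal.loc_of_comp T.exists_comp
  have hq : T.U2 1 * T.U2 1 = T.zbar := by
    refine cmk_mul_congr ?_
    rw [← T.mul2 (by norm_num) (by norm_num)]
    exact T.u2_four
  have hy1 : cmk T.c01.symm ≠ 1 := fun e => by
    obtain ⟨i, hi⟩ := (cmk_one _).1 e
    obtain ⟨l, hl, hl'⟩ := zpow_three T.cube0 i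
    rw [hl'] at hi
    have e' := congrArg D.act hi
    rw [T.act1, D.act_pow T.z0, T.act0, ← T.K.W_rep] at e'
    have k := T.K.key_eq good_words.2.1 (good_rep good_words.1 l) e'
    have : ∀ l < 3, key R1 ≠ key (rep R0 l) := by decide +kernel
    exact this l hl k
  have hu8 : T.u1 8 = T.y1 := (T.base1.u_high 1).trans (pow_one _)
  have W := wit_of_root L (a := cmk T.c01.symm) (q := T.U2 1) (cmk_comm (hb := T.z0.symm) T.z1)
    (by rw [cmk_pow]; exact (cmk_one _).2 ⟨0, by rw [T.cube1, zpow_zero]⟩) hy1 hq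
    (cmk_comm (hu8 ▸ T.comm_u 8 1))
  obtain ⟨u, hu, v, hv, hc, hne⟩ := W
  obtain ⟨a, ha, ha', rfl⟩ := T.lift_oGrp hy hu
  obtain ⟨b, hb, hb', rfl⟩ := T.lift_oGrp hy hv
  obtain ⟨j, hj⟩ := mem_zpowers_iff.1 hc
  obtain ⟨k, hk, hk'⟩ := zpow_three T.cube1 j
  have hcy : Commute (a * b * a⁻¹ * b⁻¹) T.y0 := ((ha'.mul_left hb').mul_left ha'.inv_left).mul_left hb'.inv_left
  have e : cmk (T.c01.symm.pow_left k) = cmk hcy := by
    refine Eq.trans ?_ (hj.trans (show cmk ha' * cmk hb' * (cmk ha')⁻¹ * (cmk hb')⁻¹ = cmk hcy from rfl))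
    rw [cmk_congr (hb := T.c01.symm.zpow_left j) hk'.symm]
    exact map_zpow (QuotientGroup.mk' (selfGrp T.y0))
      (⟨T.y1, mem_centralizer_singleton_iff.2 T.c01.symm.eq⟩ : ↥(centralizer ({T.y0} : Set G))) j
  obtain ⟨i, hi⟩ := (cmk_eq _ _).1 e
  have hm := cDer_mem ha' hb'
  rw [hi] at hm
  have hi1 := T.zpow_der hy ((mul_mem_cancel_left (pow_mem (T.y1_mem hy) k)).1 hm)
  rw [hi1, mul_one] at hi
  have hO : T.y1 ^ k ∈ ⁅T.oGrp, T.oGrp⁆ := by
    rw [← hi]
    have := commutator_mem_commutator ha hb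
    rwa [commutatorElement_def] at this
  interval_cases k
  · exfalso
    refine hne ?_
    rw [show cmk ha' * cmk hb' * (cmk ha')⁻¹ * (cmk hb')⁻¹ = cmk hcy from rfl]
    exact (cmk_one _).2 ⟨0, by rw [hi, pow_zero, zpow_zero]⟩
  · rwa [pow_one] at hO
  · have : T.y1 = (T.y1 ^ 2) * (T.y1 ^ 2) := by rw [← pow_add, pow_succ, T.cube1, one_mul]
    have hm := mul_mem hO hO
    rwa [← this] at hm

omit hy

/-- The centralizer of the first element is perfect. -/
theorem y0_mem : T.y0 ∈ cDer T.y0 := by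
  by_contra hy
  obtain ⟨c, -, hc⟩ := T.exists_conj
  have hy1 : T.swap.y0 ∉ cDer T.swap.y0 := fun h => hy (by
    have := cDer_map (c := c⁻¹) (y' := T.y0) (show c⁻¹ * T.y1 * c⁻¹⁻¹ = T.y0 by rw [← hc]; group) h
    rwa [show T.swap.y0 = c * T.y0 * c⁻¹ from hc.symm,
      show c⁻¹ * (c * T.y0 * c⁻¹) * c⁻¹⁻¹ = T.y0 by group] at this)
  have h := T.swap.y1_commutator hy1
  rw [T.oGrp_swap] at h
  exact hy ((commutator_mono (fun w hw => mem_centralizer_singleton_iff.2 (T.oGrp_comm hw).eq)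
    (fun w hw => mem_centralizer_singleton_iff.2 (T.oGrp_comm hw).eq) : ⁅T.oGrp, T.oGrp⁆ ≤ cDer T.y0) h)

theorem perfect : Group.IsPerfect ↥(centralizer ({T.y0} : Set G)) := by
  rw [Subgroup.isPerfect_iff]
  refine le_antisymm (commutator_le.2 fun a ha b hb => by
    rw [commutatorElement_def]
    exact mul_mem (mul_mem (mul_mem ha hb) (inv_mem ha)) (inv_mem hb)) fun g hg => ?_
  obtain ⟨x, hx, i, rfl⟩ := T.cover (mem_centralizer_singleton_iff.1 hg)
  exact mul_mem hx (zpow_mem T.y0_mem i)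

/-- The centralizer of the first element is quasisimple. -/
theorem quasisimple : Cfsg.IsQuasisimple ↥(centralizer ({T.y0} : Set G)) := by
  refine ⟨T.perfect, ?_⟩
  have hZ : center ↥(centralizer ({T.y0} : Set G)) = selfGrp T.y0 := by
    refine le_antisymm (fun x hx => ?_) ((zpowers_le).2 (mem_center_iff.2 fun g =>
      Subtype.ext (mem_centralizer_singleton_iff.1 g.2)))
    have hm : QuotientGroup.mk' (selfGrp T.y0) x ∈ center (CQ T.y0) := mem_center_iff.2 fun q => by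
      obtain ⟨q, rfl⟩ := QuotientGroup.mk'_surjective _ q
      rw [← map_mul, ← map_mul, mem_center_iff.1 hx q]
    rw [T.noncomm_CQ.1, mem_bot] at hm
    exact (QuotientGroup.eq_one_iff x).1 hm
  haveI := T.simple_CQ
  exact (QuotientGroup.quotientMulEquivOfEq hZ).isSimpleGroup

end Tri

end Cfsg.Lib.Extra.SuzThree
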