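import Mathlib

/-!
# Three anisotropic planes over the field with two elements

A vector is a code below 64, two bits for each plane. The isometries commuting with the rotation
of the first plane are products of the three rotations, of a product of two plane reflections and
of an exchange of the last two planes.
-/

set_option autoImplicit false
set_option maxRecDepth 10000

namespace Cfsg.Lib.Extra.SuzThree

/-- The bilinear form of the codes. -/
def bM (a b : ℕ) : ℕ :=
  (a % 2 * (b / 2 % 2) + a / 2 % 2 * (b % 2) + a / 4 % 2 * (b / 8 % 2) + a / 8 % 2 * (b / 4 % 2) +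
    a / 16 % 2 * (b / 32 % 2) + a / 32 % 2 * (b / 16 % 2)) % 2

/-- The quadratic form of the codes. -/
def qM (a : ℕ) : ℕ :=
  ((a % 2 + a / 2 % 2 + a % 2 * (a / 2 % 2)) + (a / 4 % 2 + a / 8 % 2 + a / 4 % 2 * (a / 8 % 2)) +
    (a / 16 % 2 + a / 32 % 2 + a / 16 % 2 * (a / 32 % 2))) % 2

/-- The reflection in a vector. -/
def rM (v x : ℕ) : ℕ := if Nat.beq (bM v x) 1 then x ^^^ v else x

/-- The action of a word of reflections. -/
def wM : List ℕ → ℕ → ℕ
  | [], x => x
  | v :: l, x => rM v (wM l x)

/-- The images of the six basis vectors, as one number. -/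
def key (l : List ℕ) : ℕ :=
  wM l 1 + 64 * wM l 2 + 4096 * wM l 4 + 262144 * wM l 8 + 16777216 * wM l 16 + 1073741824 * wM l 32

/-- Iterates of a word. -/
def rep (l : List ℕ) : ℕ → List ℕ
  | 0 => []
  | k + 1 => l ++ rep l k

/-- The rotation of the first plane. -/
def R0 : List ℕ := [1, 2]
/-- The rotation of the second plane. -/
def R1 : List ℕ := [4, 8]
/-- The rotation of the third plane. -/
def R2 : List ℕ := [16, 32]
/-- The inverter of the last two rotations. -/
def TT : List ℕ := [4, 16]
/-- The exchange of the last two planes. -/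
def SS : List ℕ := [1, 21, 41, 61]
/-- The exchange of the first two planes. -/
def S01 : List ℕ := [16, 21, 26, 31]
/-- An inverter of the first rotation. -/
def N0 : List ℕ := [1, 4]

/-- The rotations. -/
def eW (l k n : ℕ) : List ℕ := rep R0 l ++ (rep R1 k ++ rep R2 n)

/-- The words of the centraliser of the first rotation. -/
def cW (l k n f e : ℕ) : List ℕ := eW l k n ++ (rep TT f ++ rep SS e)

/-- The indices of the words. -/
def idx : List (ℕ × ℕ × ℕ × ℕ × ℕ) :=
  (List.range 3).flatMap fun l => (List.range 3).flatMap fun k => (List.range 3).flatMap fun n =>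
    (List.range 2).flatMap fun f => (List.range 2).map fun e => (l, k, n, f, e)

/-- The word of an index. -/
def wd (i : ℕ × ℕ × ℕ × ℕ × ℕ) : List ℕ := cW i.1 i.2.1 i.2.2.1 i.2.2.2.1 i.2.2.2.2

/-- The words with trivial part on the first plane. -/
def idx0 : List (ℕ × ℕ × ℕ × ℕ × ℕ) := idx.filter fun i => Nat.beq i.1 0

theorem xor_bits : ∀ a < 64, ∀ b < 64, a ^^^ b < 64 ∧
    ((a ^^^ b) % 2 = (a % 2 + b % 2) % 2 ∧ (a ^^^ b) / 2 % 2 = (a / 2 % 2 + b / 2 % 2) % 2 ∧
    (a ^^^ b) / 4 % 2 = (a / 4 % 2 + b / 4 % 2) % 2 ∧ (a ^^^ b) / 8 % 2 = (a / 8 % 2 + b / 8 % 2) % 2 ∧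
    (a ^^^ b) / 16 % 2 = (a / 16 % 2 + b / 16 % 2) % 2 ∧
    (a ^^^ b) / 32 % 2 = (a / 32 % 2 + b / 32 % 2) % 2) := by decide +kernel

theorem bM_nondeg : ∀ a < 64, a ≠ 0 → ∃ b < 64, bM a b = 1 := by decide +kernel

theorem rM_lt {v x : ℕ} (hv : v < 64) (hx : x < 64) : rM v x < 64 := by
  unfold rM
  split
  · exact (xor_bits x hx v hv).1
  · exact hx

/-- A valid word. -/
def good (l : List ℕ) : Bool := l.all fun v => Nat.blt v 64 && Nat.beq (qM v) 1

theorem good_cons {v : ℕ} {l : List ℕ} :
    good (v :: l) = true ↔ (v < 64 ∧ qM v = 1) ∧ good l = true := by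
  simp [good]

theorem good_append {a b : List ℕ} : good (a ++ b) = true ↔ good a = true ∧ good b = true := by
  simp only [good, List.all_append, Bool.and_eq_true]

theorem good_rep {l : List ℕ} (h : good l = true) : ∀ k, good (rep l k) = true
  | 0 => rfl
  | k + 1 => good_append.2 ⟨h, good_rep h k⟩

theorem good_words : good R0 = true ∧ good R1 = true ∧ good R2 = true ∧ good TT = true ∧
    good SS = true ∧ good S01 = true ∧ good N0 = true := by decide +kernel

theorem good_eW (l k n : ℕ) : good (eW l k n) = true :=
  good_append.2 ⟨good_rep good_words.1 l, good_append.2 ⟨good_rep good_words.2.1 k,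
    good_rep good_words.2.2.1 n⟩⟩

theorem good_wd (i : ℕ × ℕ × ℕ × ℕ × ℕ) : good (wd i) = true :=
  good_append.2 ⟨good_eW _ _ _, good_append.2 ⟨good_rep good_words.2.2.2.1 _,
    good_rep good_words.2.2.2.2.1 _⟩⟩

/-- The nonsingular vectors off the first plane and in a single other plane. -/
def six : List ℕ := [4, 8, 12, 16, 32, 48]

theorem six_spec : ∀ a < 64, a % 4 = 0 → qM a = 1 → a ∈ six := by decide +kernel

/-- The conditions on the images of the basis. -/
def okImg (a b c d : ℕ) : Bool :=
  Nat.beq (bM a b) 1 && Nat.beq (bM c d) 1 && Nat.beq (bM a c) 0 && Nat.beq (bM a d) 0 &&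
    Nat.beq (bM b c) 0 && Nat.beq (bM b d) 0

/-- Every candidate is one of the words, or one followed by a reflection. -/
theorem classify : ((List.range 3).all fun l => six.all fun a => six.all fun b => six.all fun c =>
    six.all fun d => !okImg a b c d || idx.any fun i =>
      Nat.beq (key (wd i)) (wM (rep R0 l) 1 + 64 * wM (rep R0 l) 2 + 4096 * a + 262144 * b +
        16777216 * c + 1073741824 * d) ||
      Nat.beq (key (wd i ++ [4])) (wM (rep R0 l) 1 + 64 * wM (rep R0 l) 2 + 4096 * a + 262144 * b +
        16777216 * c + 1073741824 * d)) = true := by decide +kernel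

/-- Conjugation preserves the group of the last two rotations. -/
theorem conj_check : (idx.all fun i => (List.range 3).all fun k => (List.range 3).all fun n =>
    (List.range 3).any fun k' => (List.range 3).any fun n' =>
      Nat.beq (key (wd i ++ eW 0 k n)) (key (eW 0 k' n' ++ wd i))) = true := by decide +kernel

/-- The words commute with the first rotation. -/
theorem comm_check : (idx.all fun i => Nat.beq (key (R0 ++ wd i)) (key (wd i ++ R0))) = true := by decide +kernel

/-- The fourth powers are rotations. -/
theorem four_check : (idx.all fun i => (List.range 3).any fun l => (List.range 3).any fun k =>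
    (List.range 3).any fun n =>
      Nat.beq (key (wd i ++ (wd i ++ (wd i ++ wd i)))) (key (eW l k n))) = true := by decide +kernel

/-- The words with trivial first part stay distinct modulo the first rotation. -/
theorem sep_check : (idx0.all fun i => idx0.all fun j => (List.range 3).all fun m =>
    !Nat.beq (key (wd i)) (key (rep R0 m ++ wd j)) || (decide (i = j) && Nat.beq m 0)) = true := by
  decide +kernel

/-- Every word is a power of the first rotation followed by one with trivial first part. -/
theorem split_check : (idx.all fun i => idx0.any fun j => (List.range 3).any fun m =>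
    Nat.beq (key (wd i)) (key (rep R0 m ++ wd j))) = true := by decide +kernel

/-- A word fixing the last two planes is a power of the first rotation. -/
theorem fix_check : (idx.all fun i => !(Nat.beq (wM (wd i) 4) 4 && Nat.beq (wM (wd i) 8) 8 &&
    Nat.beq (wM (wd i) 16) 16 && Nat.beq (wM (wd i) 32) 32) ||
    (List.range 3).any fun l => Nat.beq (key (wd i)) (key (rep R0 l))) = true := by decide +kernel

theorem rot_facts : key (rep R0 3) = key [] ∧ key (rep R1 3) = key [] ∧ key (rep R2 3) = key [] ∧
    key (R0 ++ R1) = key (R1 ++ R0) ∧ key (R0 ++ R2) = key (R2 ++ R0) ∧ key (R1 ++ R2) = key (R2 ++ R1) ∧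
    key (TT ++ R0) = key (R0 ++ TT) ∧ key (TT ++ R1) = key (rep R1 2 ++ TT) ∧
    key (S01 ++ R0) = key (R1 ++ S01) ∧ key (N0 ++ R0) = key (rep R0 2 ++ N0) := by decide +kernel

theorem fix_R0 : ∀ a < 64, wM R0 a = a → a % 4 = 0 := by decide +kernel

theorem rot_sep : ((List.range 3).all fun k => (List.range 3).all fun n => (List.range 3).all fun l =>
    !Nat.beq (key (eW 0 k n)) (key (rep R0 l)) || (Nat.beq k 0 && Nat.beq n 0 && Nat.beq l 0)) = true := by
  decide +kernel

theorem card_idx0 : idx0.length = 36 ∧ idx0.Nodup := by decide +kernel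

end Cfsg.Lib.Extra.SuzThree
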