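import Cfsg.Agent.Lib.Extra.SuzThree.Planes

/-!
# Elements of order three centralizing `z`
-/

set_option autoImplicit false
set_option linter.style.haveILetI false

namespace Cfsg.Lib.Extra.SuzThree

open Cfsg Module Cfsg.Lib.Linear Cfsg.Lib.Linear.Orth Cfsg.Lib.Extra.Wide Cfsg.Lib.Extra.SuzLocal
open scoped Matrix

variable {G : Type*} [Group G] {ι : Type} [Fintype ι] [DecidableEq ι] {D : Data G ι}

theorem z_cube (D : Data G ι) : D.z ^ 3 = D.z := by
  rw [pow_succ, pow_two, D.ctx.sq_z, one_mul]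

theorem q_four {a : G} (ha : a ∈ D.Q) : a ^ 4 = 1 := by
  rw [show a ^ 4 = a * a * (a * a) by simp [pow_succ, mul_assoc]]
  rcases D.ctx.sq a ha with e | e <;> simp [e, D.ctx.sq_z]

/-- An element of order three commutes with the elements of `Q` over its fixed space. -/
theorem commute_fix {b q : G} (hb : b ^ 3 = 1) (hbz : Commute b D.z) (hq : q ∈ D.Q)
    (h : (D.act b).val *ᵥ D.cls q = D.cls q) : Commute b q := by
  rcases D.cls_eq hq (D.conj_mem hbz hq) (by rw [D.act_cls b hbz q hq, h]) with e | e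
  · exact mul_inv_eq_iff_eq_mul.1 e
  · exfalso
    refine D.ctx.ne_one ?_
    have hz : ∀ w, b * (D.z * w) * b⁻¹ = D.z * (b * w * b⁻¹) := fun w => by
      rw [← mul_assoc b, hbz.eq]; group
    have h1 : b ^ 3 * q * (b ^ 3)⁻¹ = D.z * (D.z * (D.z * q)) := by
      calc b ^ 3 * q * (b ^ 3)⁻¹ = b * (b * (b * q * b⁻¹) * b⁻¹) * b⁻¹ := by
            rw [pow_succ, pow_two]; group
        _ = D.z * (D.z * (D.z * q)) := by rw [e, hz, e, hz, hz, e]
    rw [hb, one_mul, inv_one, mul_one, ← mul_assoc D.z D.z, D.ctx.sq_z, one_mul] at h1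
    exact right_eq_mul.1 h1

/-- Elements of order three with the same action are conjugate under `Q`. -/
theorem conj_of_act {b b' : G} (hb : b ^ 3 = 1) (hbz : Commute b D.z) (hb' : b' ^ 3 = 1)
    (hb'z : Commute b' D.z) (h : D.act b' = D.act b) : ∃ q ∈ D.Q, q * b * q⁻¹ = b' := by
  set r := b' * b⁻¹ with hr
  have hrQ : r ∈ D.Q := (D.act_ker r (hb'z.mul_left hbz.inv_left)).1 (by
    rw [hr, D.act_mul _ _ hb'z hbz.inv_left, D.act_inv hbz, h, mul_inv_cancel])
  set g := D.act b with hg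
  set x := D.cls r with hx
  have hsum : x + g.val *ᵥ x + g.val *ᵥ (g.val *ᵥ x) = 0 := by
    have e : r * (b * r * b⁻¹) * (b * (b * r * b⁻¹) * b⁻¹) = 1 := by
      calc _ = (r * b) ^ 3 * (b ^ 3)⁻¹ := by simp only [pow_succ, pow_zero, one_mul]; group
        _ = 1 := by rw [hr, inv_mul_cancel_right, hb', hb, inv_one, mul_one]
    have h1 := D.conj_mem hbz hrQ
    have h2 := D.conj_mem hbz h1
    have := congrArg D.cls e
    rwa [D.cls_mul _ (mul_mem hrQ h1) _ h2, D.cls_mul _ hrQ _ h1, D.act_cls b hbz _ h1,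
      D.act_cls b hbz _ hrQ, D.cls_one] at this
  obtain ⟨q, hq, hqc⟩ := D.cls_surj (g.val *ᵥ x)
  refine ⟨q, hq, ?_⟩
  set s := q * (b * q⁻¹ * b⁻¹) with hs
  have hi := D.conj_mem hbz (inv_mem hq)
  have hsx : D.cls s = x := by
    rw [hs, D.cls_mul _ hq _ hi, D.act_cls b hbz _ (inv_mem hq), D.cls_inv hq, hqc]
    exact (vadd_eq_zero (by rw [← add_assoc]; exact hsum)).symm
  have hsb : q * b * q⁻¹ = s * b := by rw [hs]; group
  rcases D.cls_eq hrQ (mul_mem hq hi) hsx.symm with e | e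
  · rw [hsb, hs, e, hr, inv_mul_cancel_right]
  · exfalso
    have h3 : (D.z * b') ^ 3 = 1 := by
      rw [show D.z * b' = q * b * q⁻¹ by rw [hsb, hs, e, mul_assoc, hr, inv_mul_cancel_right],
        conj_pow, hb]
      simp
    rw [hb'z.symm.mul_pow, hb', z_cube, mul_one] at h3
    exact D.ctx.ne_one h3

/-- Elements of `Ω` commuting with the action lift to the centralizer. -/
theorem lift_comm {b : G} (hb : b ^ 3 = 1) (hbz : Commute b D.z) {k : GL ι (ZMod 2)}
    (hk : k ∈ Cfsg.Geo.omegaGL D.qf) (hc : Commute (D.act b) k) :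
    ∃ c, Commute c D.z ∧ Commute c b ∧ D.act c = k := by
  obtain ⟨c0, hc0, rfl⟩ := D.act_surj k hk
  have hb'z : Commute (c0 * b * c0⁻¹) D.z := (hc0.mul_left hbz).mul_left hc0.inv_left
  obtain ⟨q, hq, e⟩ := conj_of_act hb hbz (b' := c0 * b * c0⁻¹) (by rw [conj_pow, hb]; simp) hb'z (by
    rw [D.act_mul _ _ (hc0.mul_left hbz) hc0.inv_left, D.act_mul _ _ hc0 hbz, D.act_inv hc0, ← hc.eq,
      mul_inv_cancel_right])
  have hqz : Commute q D.z := (D.ctx.central q hq).symm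
  refine ⟨q⁻¹ * c0, hqz.inv_left.mul_left hc0, ?_, ?_⟩
  · show q⁻¹ * c0 * b = b * (q⁻¹ * c0)
    calc q⁻¹ * c0 * b = q⁻¹ * (c0 * b * c0⁻¹) * c0 := by group
      _ = _ := by rw [← e]; group
  · rw [D.act_mul _ _ hqz.inv_left hc0, D.act_inv hqz, D.act_q hq, inv_one, one_mul]

/-- An element of `Ω` of order three commuting with the action lifts to one of order three. -/
theorem lift_cube {b : G} (hb : b ^ 3 = 1) (hbz : Commute b D.z) {k : GL ι (ZMod 2)}
    (hk : k ∈ Cfsg.Geo.omegaGL D.qf) (h3 : k ^ 3 = 1) (hc : Commute (D.act b) k) :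
    ∃ c, c ^ 3 = 1 ∧ Commute c D.z ∧ Commute c b ∧ D.act c = k := by
  obtain ⟨c, hcz, hcb, rfl⟩ := lift_comm hb hbz hk hc
  have hq : c ^ 3 ∈ D.Q := (D.act_ker _ (hcz.pow_left 3)).1 (by rw [D.act_pow hcz, h3])
  refine ⟨c ^ 4, ?_, hcz.pow_left 4, hcb.pow_left 4, ?_⟩
  · rw [← pow_mul, show 4 * 3 = 3 * 4 from rfl, pow_mul, q_four hq]
  · rw [D.act_pow hcz, pow_succ, h3, one_mul]

/-- The commutator of two elements of order three with commuting actions centralizes what one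
fixes. -/
theorem comm_fix {c d q : G} (hd : d ^ 3 = 1) (hcz : Commute c D.z)
    (hdz : Commute d D.z) (hcd : Commute (D.act c) (D.act d)) (hq : q ∈ D.Q)
    (hf : (D.act d).val *ᵥ D.cls q = D.cls q) : Commute (c * d * c⁻¹ * d⁻¹) q := by
  have h0 : Commute d q := commute_fix hd hdz hq hf
  have hq1 : c⁻¹ * q * c⁻¹⁻¹ ∈ D.Q := D.conj_mem hcz.inv_left hq
  have h1 : Commute d (c⁻¹ * q * c⁻¹⁻¹) := commute_fix hd hdz hq1 (by
    rw [D.act_cls _ hcz.inv_left q hq, D.act_inv hcz, ← mul_act, ← hcd.inv_left.eq, mul_act, hf])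
  refine mul_inv_eq_iff_eq_mul.1 ?_
  calc c * d * c⁻¹ * d⁻¹ * q * (c * d * c⁻¹ * d⁻¹)⁻¹ =
        c * (d * (c⁻¹ * (d⁻¹ * q * d) * c⁻¹⁻¹) * d⁻¹) * c⁻¹ := by group
    _ = c * (c⁻¹ * q * c⁻¹⁻¹) * c⁻¹ := by
      rw [show d⁻¹ * q * d = q by rw [h0.inv_left.eq, inv_mul_cancel_right], h1.eq, mul_inv_cancel_right]
    _ = q := by group

/-- A point centralized by an element of order three is moved within its centralizer. -/
theorem fused [Finite G] {b t : G} (hb : b ^ 3 = 1) (hbz : Commute b D.z) (ht : D.Point t)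
    (hbt : Commute b t) : ∃ r, Commute r b ∧ r * D.z * r⁻¹ = t * D.z := by
  obtain ⟨k, hk⟩ := ht.cl
  set D' := D.conj k with hD'
  have hz' : D'.z = t := hk
  have hzQ : D.z ∈ D'.Q := by
    show D.z ∈ D.Q.map (MulAut.conj k).toMonoidHom
    rw [← D.Qof_eq hk]; exact ht.mem_snd
  have hb' : Commute b D'.z := by rw [hz']; exact hbt
  set g := D'.act b
  have h3 : g ^ 3 = 1 := by rw [← D'.act_pow hb', hb, D'.act_one]
  set p := D'.cls D.z
  have hp : g.val *ᵥ p = p := D'.fix_of_commute hb' hzQ hbz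
  have hp0 : p ≠ 0 := fun e =>
    ((D'.cls_ker _ hzQ).1 e).elim D.ctx.ne_one fun e' => ht.ne_z (hz' ▸ e'.symm)
  obtain ⟨w, hw, hw1⟩ : ∃ w, g.val *ᵥ w = w ∧ D'.B p w = 1 := by
    by_contra hcon
    push Not at hcon
    refine hp0 (D'.space.nondeg' fun x => ?_)
    have hi : ∀ v, D'.B p (g.val *ᵥ v) = D'.B p v := fun v => by
      conv_lhs => rw [← hp]
      exact D'.space.B_act (D'.act_iso hb') p v
    have h := (bit _).resolve_right (hcon _ (fix_sum h3 x))
    rw [map_add, map_add, hi, hi, hi, bit_self, zero_add] at h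
    exact h
  obtain ⟨r, hr, rfl⟩ := D'.cls_surj w
  refine ⟨r, (commute_fix hb hb' hr hw).symm, ?_⟩
  rw [← hz']
  exact D'.q_move hr hzQ (by rw [D'.space.symm]; exact hw1)

end Cfsg.Lib.Extra.SuzThree
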