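import Cfsg.Agent.Lib.Extra.SuzThree.Triple

/-!
# The product of the two copies of SL(2, 3)
-/

set_option autoImplicit false
set_option maxRecDepth 10000
set_option linter.style.haveILetI false

namespace Cfsg.Lib.Extra.SuzThree

open Cfsg Module Cfsg.Lib.Linear Cfsg.Lib.Linear.Orth Cfsg.Lib.Extra.Wide Cfsg.Lib.Extra.SuzLocal
open Cfsg.Lib.UFourThreeLocal (sMul sMul_lt)
open scoped Matrix

variable {G : Type*} [Group G] {ι : Type} [Fintype ι] [DecidableEq ι] {D : Data G ι}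

theorem plane_codes : wM R1 4 = 8 ∧ wM R1 8 = 12 ∧ wM R2 16 = 32 ∧ wM R2 32 = 48 ∧ wM R1 16 = 16 ∧
    wM R2 4 = 4 := by decide +kernel

namespace Tri

variable (T : Tri D)

theorem exists_base1 : ∃ i, QBase D T.y1 i (T.K.φ 4) (T.K.φ 8) := by
  obtain ⟨e1, e2, -, -, -, -⟩ := plane_codes
  refine exists_qbase T.cube1 T.z1 (T.K.q_one (by norm_num) rfl)
    (by rw [T.K.B (by norm_num) (by norm_num)]; rfl) ?_ ?_
  · rw [T.act1, T.K.W_act good_words.2.1 (by norm_num), e1]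
  · rw [T.act1, T.K.W_act good_words.2.1 (by norm_num), e2, show (12 : ℕ) = 4 ^^^ 8 from rfl,
      T.K.add (by norm_num) (by norm_num)]

theorem exists_base2 : ∃ i, QBase D T.y2 i (T.K.φ 16) (T.K.φ 32) := by
  obtain ⟨-, -, e1, e2, -, -⟩ := plane_codes
  refine exists_qbase T.cube2 T.z2 (T.K.q_one (by norm_num) rfl)
    (by rw [T.K.B (by norm_num) (by norm_num)]; rfl) ?_ ?_
  · rw [T.act2, T.K.W_act good_words.2.2.1 (by norm_num), e1]
  · rw [T.act2, T.K.W_act good_words.2.2.1 (by norm_num), e2, show (48 : ℕ) = 16 ^^^ 32 from rfl,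
      T.K.add (by norm_num) (by norm_num)]

/-- The lift in the second plane. -/
noncomputable def i1 : G := T.exists_base1.choose

/-- The lift in the third plane. -/
noncomputable def i2 : G := T.exists_base2.choose

theorem base1 : QBase D T.y1 T.i1 (T.K.φ 4) (T.K.φ 8) := T.exists_base1.choose_spec

theorem base2 : QBase D T.y2 T.i2 (T.K.φ 16) (T.K.φ 32) := T.exists_base2.choose_spec

/-- The first copy of SL(2, 3). -/
noncomputable def u1 (n : ℕ) : G := T.base1.u n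

/-- The second copy of SL(2, 3). -/
noncomputable def u2 (n : ℕ) : G := T.base2.u n

theorem mul1 {a b : ℕ} (ha : a < 24) (hb : b < 24) : T.u1 (sMul a b) = T.u1 a * T.u1 b := T.base1.mul ha hb

theorem mul2 {a b : ℕ} (ha : a < 24) (hb : b < 24) : T.u2 (sMul a b) = T.u2 a * T.u2 b := T.base2.mul ha hb

theorem u1_zero : T.u1 0 = 1 := T.base1.zero
theorem u2_zero : T.u2 0 = 1 := T.base2.zero
theorem u1_four : T.u1 4 = D.z := T.base1.four
theorem u2_four : T.u2 4 = D.z := T.base2.four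

theorem u_z (a b : ℕ) : Commute (T.u1 a * T.u2 b) D.z := (T.base1.u_cent a).mul_left (T.base2.u_cent b)

theorem comm_y0 (n : ℕ) : Commute T.y0 (T.u1 n) ∧ Commute T.y0 (T.u2 n) := by
  have f : ∀ x, x ∈ [4, 8, 16, 32] → (D.act T.y0).val *ᵥ T.K.φ x = T.K.φ x := fun x hx => by
    rw [T.act0]; exact T.K.R0_fix hx
  exact ⟨T.base1.u_comm T.z0 (commute_fix T.cube0 T.z0 T.base1.mem (by rw [T.base1.cls]; exact f 4 (by simp)))
      T.c01 n,
    T.base2.u_comm T.z0 (commute_fix T.cube0 T.z0 T.base2.mem (by rw [T.base2.cls]; exact f 16 (by simp)))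
      T.c02 n⟩

theorem comm_u (a b : ℕ) : Commute (T.u1 a) (T.u2 b) := by
  obtain ⟨-, -, -, -, e1, e2⟩ := plane_codes
  have h2 : Commute T.y2 T.i1 := commute_fix T.cube2 T.z2 T.base1.mem (by
    rw [T.base1.cls, T.act2, T.K.W_act good_words.2.2.1 (by norm_num), e2])
  have h1 : Commute T.y1 T.i2 := commute_fix T.cube1 T.z1 T.base2.mem (by
    rw [T.base2.cls, T.act1, T.K.W_act good_words.2.1 (by norm_num), e1])
  have hi : Commute T.i2 T.i1 := (D.cls_comm _ T.base2.mem _ T.base1.mem).2 (by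
    rw [T.base2.cls, T.base1.cls, T.K.B (by norm_num) (by norm_num)]; rfl)
  refine T.base2.u_comm (T.base1.u_cent a) ?_ ?_ b
  · exact (T.base1.u_comm (D.ctx.central _ T.base2.mem).symm hi h1.symm a).symm
  · exact (T.base1.u_comm T.z2 h2 T.c12.symm a).symm

theorem low_mem {p r : ℕ} (hp : p < 8) (hr : r < 8) : T.u1 p * T.u2 r ∈ D.Q := by
  rw [u1, u2, T.base1.u_low hp, T.base2.u_low hr]
  exact mul_mem (T.base1.val_mem p) (T.base2.val_mem r)

theorem low_cls {p r : ℕ} (hp : p < 8) (hr : r < 8) :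
    D.cls (T.u1 p * T.u2 r) = T.K.φ ((4 * (p % 4)) ^^^ (16 * (r % 4))) := by
  have a1 : ∀ p : ℕ, p < 8 → (p : ZMod 2) • T.K.φ 4 + ((p / 2 : ℕ) : ZMod 2) • T.K.φ 8 = T.K.φ (4 * (p % 4)) := by
    intro p hp
    have h := T.K.add (a := 4) (b := 8) (by norm_num) (by norm_num)
    rw [show (4 : ℕ) ^^^ 8 = 12 from rfl] at h
    interval_cases p <;>
      simp [T.K.zero, h, show (2 : ZMod 2) = 0 from rfl, show (3 : ZMod 2) = 1 from rfl,
        show (4 : ZMod 2) = 0 from rfl, show (5 : ZMod 2) = 1 from rfl, show (6 : ZMod 2) = 0 from rfl,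
        show (7 : ZMod 2) = 1 from rfl]
  have a2 : ∀ p : ℕ, p < 8 → (p : ZMod 2) • T.K.φ 16 + ((p / 2 : ℕ) : ZMod 2) • T.K.φ 32 = T.K.φ (16 * (p % 4)) := by
    intro p hp
    have h := T.K.add (a := 16) (b := 32) (by norm_num) (by norm_num)
    rw [show (16 : ℕ) ^^^ 32 = 48 from rfl] at h
    interval_cases p <;>
      simp [T.K.zero, h, show (2 : ZMod 2) = 0 from rfl, show (3 : ZMod 2) = 1 from rfl,
        show (4 : ZMod 2) = 0 from rfl, show (5 : ZMod 2) = 1 from rfl, show (6 : ZMod 2) = 0 from rfl,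
        show (7 : ZMod 2) = 1 from rfl]
  rw [u1, u2, T.base1.u_low hp, T.base2.u_low hr, D.cls_mul _ (T.base1.val_mem p) _ (T.base2.val_mem r),
    T.base1.val_cls hp, T.base2.val_cls hr, a1 p hp, a2 r hr, T.K.add (by omega) (by omega)]

theorem low_codes : ∀ p < 8, ∀ r < 8, (4 * (p % 4)) ^^^ (16 * (r % 4)) < 64 ∧
    ((4 * (p % 4)) ^^^ (16 * (r % 4))) / 4 % 4 = p % 4 ∧ ((4 * (p % 4)) ^^^ (16 * (r % 4))) / 16 = r % 4 := by
  decide +kernel

theorem low_fix {p r : ℕ} : Commute T.y0 (T.u1 p * T.u2 r) := (T.comm_y0 p).1.mul_right (T.comm_y0 r).2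

theorem low_inj {p r p' r' : ℕ} (hp : p < 8) (hr : r < 4) (hp' : p' < 8) (hr' : r' < 4)
    (e : T.u1 p * T.u2 r = T.u1 p' * T.u2 r') : p = p' ∧ r = r' := by
  have h := congrArg D.cls e
  rw [T.low_cls hp (by omega), T.low_cls hp' (by omega)] at h
  obtain ⟨k1, k2, k3⟩ := low_codes p hp r (by omega)
  obtain ⟨l1, l2, l3⟩ := low_codes p' hp' r' (by omega)
  have hc := T.K.inj k1 l1 h
  rw [hc, l2] at k2
  rw [hc, l3] at k3
  have hrr : r = r' := by omega
  subst hrr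
  refine ⟨?_, rfl⟩
  by_contra hne
  have h4 : ∀ a < 8, ∀ b < 8, a % 4 = b % 4 → a ≠ b → sMul a 4 = b := by decide +kernel
  have e' := mul_right_cancel e
  rw [← h4 p hp p' hp' k2.symm hne, T.mul1 (by omega) (by norm_num), T.u1_four] at e'
  exact D.ctx.ne_one (mul_eq_left.1 e'.symm)

/-- The part of `Q` centralized by the first element. -/
theorem exists_low {q : G} (hq : q ∈ D.Q) (hc : Commute T.y0 q) :
    ∃ p < 8, ∃ r < 4, q = T.u1 p * T.u2 r := by
  obtain ⟨n, hn, e⟩ := T.K.surj (D.cls q)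
  have hf := D.fix_of_commute T.z0 hq hc
  rw [T.act0, ← e, T.K.W_act good_words.1 hn] at hf
  have h4 := fix_R0 n hn (T.K.inj (wM_lt good_words.1 hn) hn hf)
  have key : ∀ n < 64, n % 4 = 0 → 4 * (n / 4 % 4 % 4) ^^^ 16 * (n / 16 % 4) = n := by decide +kernel
  have hcls : D.cls (T.u1 (n / 4 % 4) * T.u2 (n / 16)) = D.cls q := by
    rw [T.low_cls (by omega) (by omega), key n hn h4, e]
  rcases D.cls_eq (T.low_mem (p := n / 4 % 4) (r := n / 16) (by omega) (by omega)) hq hcls with h | h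
  · exact ⟨_, by omega, _, by omega, h⟩
  · have hs : ∀ a < 8, sMul 4 a < 8 := by decide +kernel
    refine ⟨sMul 4 (n / 4 % 4), hs _ (by omega), _, (by omega : n / 16 < 4), ?_⟩
    rw [h, T.mul1 (by norm_num) (by omega), T.u1_four, mul_assoc]

/-- Membership in the product. -/
def InP (x : G) : Prop := ∃ p < 24, ∃ q < 24, x = T.u1 p * T.u2 q

theorem inP_mul {x x' : G} (h : T.InP x) (h' : T.InP x') : T.InP (x * x') := by
  obtain ⟨p, hp, q, hq, rfl⟩ := h
  obtain ⟨p', hp', q', hq', rfl⟩ := h'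
  refine ⟨_, sMul_lt hp hp', _, sMul_lt hq hq', ?_⟩
  rw [T.mul1 hp hp', T.mul2 hq hq', ((T.comm_u p' q).symm).mul_mul_mul_comm]

theorem act_rot (l k n : ℕ) :
    D.act (T.y0 ^ l * (T.y1 ^ k * T.y2 ^ n)) = T.K.W (eW l k n) := by
  rw [D.act_mul _ _ (T.z0.pow_left l) ((T.z1.pow_left k).mul_left (T.z2.pow_left n)),
    D.act_mul _ _ (T.z1.pow_left k) (T.z2.pow_left n), D.act_pow T.z0, D.act_pow T.z1, D.act_pow T.z2,
    T.act0, T.act1, T.act2, eW, T.K.W_append, T.K.W_append, T.K.W_rep, T.K.W_rep, T.K.W_rep]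

theorem u_act (a b : ℕ) : D.act (T.u1 a * T.u2 b) = T.K.W (eW 0 (a / 8) (b / 8)) := by
  rw [u1, u2, D.act_mul _ _ (T.base1.u_cent a) (T.base2.u_cent b), T.base1.u_act, T.base2.u_act, ← T.act_rot,
    pow_zero, one_mul, D.act_mul _ _ (T.z1.pow_left _) (T.z2.pow_left _), D.act_pow T.z1, D.act_pow T.z2]

/-- An element acting as a rotation lies in the product times the first element. -/
theorem of_rot {g : G} (hz : Commute g D.z) (hy : Commute g T.y0) {l k n : ℕ} (hk : k < 3) (hn : n < 3)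
    (e : D.act g = T.K.W (eW l k n)) : ∃ x, T.InP x ∧ g = T.y0 ^ l * x := by
  set w := T.y0 ^ l * (T.y1 ^ k * T.y2 ^ n)
  have hwz : Commute w D.z := (T.z0.pow_left l).mul_left ((T.z1.pow_left k).mul_left (T.z2.pow_left n))
  have hwy : Commute w T.y0 := ((Commute.refl T.y0).pow_left l).mul_left
    ((T.c01.symm.pow_left k).mul_left (T.c02.symm.pow_left n))
  have hq : w⁻¹ * g ∈ D.Q := (D.act_ker _ (hwz.inv_left.mul_left hz)).1 (by
    rw [D.act_mul _ _ hwz.inv_left hz, D.act_inv hwz, T.act_rot, e, inv_mul_cancel])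
  obtain ⟨p, hp, r, hr, h⟩ := T.exists_low hq (hwy.inv_left.mul_left hy).symm
  refine ⟨T.y1 ^ k * T.y2 ^ n * (T.u1 p * T.u2 r), T.inP_mul ⟨8 * k, by omega, 8 * n, by omega, ?_⟩
    ⟨p, by omega, r, by omega, rfl⟩, ?_⟩
  · rw [u1, u2, T.base1.u_high, T.base2.u_high]
  · rw [← mul_assoc (T.y0 ^ l), ← h, ← mul_assoc, mul_inv_cancel, one_mul]

/-- The action of an element of the centraliser is a word. -/
theorem exists_word {g : G} (hz : Commute g D.z) (hy : Commute g T.y0) :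
    ∃ i ∈ idx, D.act g = T.K.W (wd i) :=
  T.K.exists_word (D.act_mem g hz) (by
    rw [← T.act0]
    show D.act T.y0 * D.act g = D.act g * D.act T.y0
    rw [← D.act_mul _ _ T.z0 hz, ← D.act_mul _ _ hz T.z0, hy.eq])

end Tri

end Cfsg.Lib.Extra.SuzThree
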