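import Cfsg.Agent.Lib.Extra.SuzThree.Order3
import Cfsg.Agent.Lib.UFourThreeLocal.Pairs

/-!
# The copy of SL(2, 3) over one plane
-/

set_option autoImplicit false
set_option maxRecDepth 10000

namespace Cfsg.Lib.Extra.SuzThree

open Cfsg Module Cfsg.Lib.Linear Cfsg.Lib.Linear.Orth Cfsg.Lib.Extra.Wide Cfsg.Lib.Extra.SuzLocal
open Cfsg.Lib.UFourThreeLocal (sMul sMul_lt qTab aTab)
open scoped Matrix

/-- The eight units on two generators. -/
def qv {G : Type*} [Group G] (z i j : G) : ℕ → G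
  | 1 => i
  | 2 => j
  | 3 => i * j
  | 4 => z
  | 5 => z * i
  | 6 => z * j
  | 7 => z * (i * j)
  | _ => 1

variable {G : Type*} [Group G] {ι : Type} [Fintype ι] [DecidableEq ι] {D : Data G ι}

/-- A lift of the first vector of a plane rotated by `y`, with the sign fixed. -/
structure QBase (D : Data G ι) (y i : G) (v w : ι → ZMod 2) : Prop where
  cube : y ^ 3 = 1
  comm : Commute y D.z
  mem : i ∈ D.Q
  cls : D.cls i = v
  q : D.qf v = 1
  pair : D.B v w = 1
  actv : (D.act y).val *ᵥ v = w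
  actw : (D.act y).val *ᵥ w = v + w
  rel : y * (y * i * y⁻¹) * y⁻¹ = i * (y * i * y⁻¹)

theorem exists_qbase {y : G} (hy : y ^ 3 = 1) (hyz : Commute y D.z) {v w : ι → ZMod 2}
    (hq : D.qf v = 1) (hB : D.B v w = 1) (h1 : (D.act y).val *ᵥ v = w)
    (h2 : (D.act y).val *ᵥ w = v + w) : ∃ i, QBase D y i v w := by
  obtain ⟨i, hi, hiv⟩ := D.cls_surj v
  have hj := D.conj_mem hyz hi
  have hjw : D.cls (y * i * y⁻¹) = w := by rw [D.act_cls y hyz i hi, hiv, h1]
  have hk : D.cls (y * (y * i * y⁻¹) * y⁻¹) = D.cls (i * (y * i * y⁻¹)) := by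
    rw [D.act_cls y hyz _ hj, hjw, h2, D.cls_mul _ hi _ hj, hiv, hjw]
  rcases D.cls_eq (mul_mem hi hj) (D.conj_mem hyz hj) hk.symm with e | e
  · exact ⟨i, hy, hyz, hi, hiv, hq, hB, h1, h2, e⟩
  · have hzc : ∀ a, y * (D.z * a) * y⁻¹ = D.z * (y * a * y⁻¹) := fun a => by
      rw [← mul_assoc y, hyz.eq]; group
    refine ⟨D.z * i, hy, hyz, mul_mem D.ctx.mem hi, ?_, hq, hB, h1, h2, ?_⟩
    · rw [D.cls_mul _ D.ctx.mem _ hi, D.cls_z, zero_add, hiv]
    · rw [hzc, hzc, e, ← mul_assoc D.z D.z, D.ctx.sq_z, one_mul]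
      calc i * (y * i * y⁻¹) = (D.z * D.z) * (i * (y * i * y⁻¹)) := by rw [D.ctx.sq_z, one_mul]
        _ = D.z * (D.z * i) * (y * i * y⁻¹) := by group
        _ = D.z * (i * D.z) * (y * i * y⁻¹) := by rw [(D.ctx.central i hi).eq]
        _ = _ := by group

namespace QBase

variable {y i : G} {v w : ι → ZMod 2} (H : QBase D y i v w)
include H

theorem jmem : y * i * y⁻¹ ∈ D.Q := D.conj_mem H.comm H.mem

theorem jcls : D.cls (y * i * y⁻¹) = w := by rw [D.act_cls y H.comm i H.mem, H.cls, H.actv]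

theorem i_sq : i * i = D.z := (D.ctx.sq i H.mem).resolve_left fun e => by
  have := (D.cls_sq i H.mem).1 e
  rw [H.cls, H.q] at this
  exact one_ne_zero this

theorem j_sq : y * i * y⁻¹ * (y * i * y⁻¹) = D.z := by
  calc _ = y * (i * i) * y⁻¹ := by group
    _ = D.z := by rw [H.i_sq, H.comm.eq, mul_inv_cancel_right]

theorem ji : y * i * y⁻¹ * i = D.z * (i * (y * i * y⁻¹)) := by
  have h := D.q_move H.jmem H.mem (by rw [H.jcls, H.cls, D.space.symm, H.pair])
  rw [mul_inv_eq_iff_eq_mul] at h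
  rw [h, mul_assoc]

/-- A unit by its code. -/
def val (_H : QBase D y i v w) (n : ℕ) : G := qv D.z i (y * i * y⁻¹) n

/-- An element of the copy of SL(2, 3) by its code. -/
def u (H : QBase D y i v w) (n : ℕ) : G := H.val (n % 8) * y ^ (n / 8)

theorem val_mul {a b : ℕ} (ha : a < 8) (hb : b < 8) :
    H.val (qTab.getD (a * 8 + b) 0) = H.val a * H.val b := by
  have hii := H.i_sq
  have hjj := H.j_sq
  have hji := H.ji
  have hzi : i * D.z = D.z * i := (D.ctx.central i H.mem).eq.symm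
  have hzj : y * i * y⁻¹ * D.z = D.z * (y * i * y⁻¹) := (D.ctx.central _ H.jmem).eq.symm
  simp only [val]
  generalize y * i * y⁻¹ = j at *
  have hzz := D.ctx.sq_z
  have zz : ∀ x, D.z * (D.z * x) = x := fun x => by rw [← mul_assoc, hzz, one_mul]
  have ii : ∀ x, i * (i * x) = D.z * x := fun x => by rw [← mul_assoc, hii]
  have jj : ∀ x, j * (j * x) = D.z * x := fun x => by rw [← mul_assoc, hjj]
  have jis : ∀ x, j * (i * x) = D.z * (i * (j * x)) := fun x => by rw [← mul_assoc, hji]; group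
  have iz : ∀ x, i * (D.z * x) = D.z * (i * x) := fun x => by rw [← mul_assoc, hzi, mul_assoc]
  have jz : ∀ x, j * (D.z * x) = D.z * (j * x) := fun x => by rw [← mul_assoc, hzj, mul_assoc]
  interval_cases a <;> interval_cases b <;>
    simp [qTab, qv, mul_assoc, hzz, hii, hjj, hji, hzi, hzj, zz, ii, jj, jis, iz, jz]

theorem val_step {n : ℕ} (hn : n < 8) : y * H.val n * y⁻¹ = H.val (aTab.getD (8 + n) 0) := by
  have hk : ∀ a b : G, y * (a * b) * y⁻¹ = (y * a * y⁻¹) * (y * b * y⁻¹) := fun a b => by group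
  have hz : y * D.z * y⁻¹ = D.z := by rw [H.comm.eq, mul_inv_cancel_right]
  have hji' : y * (i * (y * i * y⁻¹)) * y⁻¹ = i := by
    rw [hk, H.rel, ← mul_assoc, H.ji, mul_assoc, mul_assoc, H.j_sq, ← (D.ctx.central i H.mem).eq,
      ← mul_assoc, D.ctx.sq_z, one_mul]
  interval_cases n <;> simp only [val, qv, aTab, List.getD_cons_succ, List.getD_cons_zero, hk D.z, hz, H.rel, hji']
  group

theorem val_pow {n : ℕ} (hn : n < 8) (k : ℕ) (hk : k < 3) :
    y ^ k * H.val n * (y ^ k)⁻¹ = H.val (aTab.getD (8 * k + n) 0) := by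
  have h8 : ∀ n < 8, aTab.getD n 0 = n ∧ aTab.getD (8 + n) 0 < 8 ∧
      aTab.getD (8 + aTab.getD (8 + n) 0) 0 = aTab.getD (16 + n) 0 := by decide
  obtain ⟨e0, e1, e2⟩ := h8 n hn
  interval_cases k
  · rw [pow_zero, Nat.mul_zero, Nat.zero_add, e0, one_mul, inv_one, mul_one]
  · simpa using H.val_step hn
  · rw [pow_two, show y * y * H.val n * (y * y)⁻¹ = y * (y * H.val n * y⁻¹) * y⁻¹ by group, H.val_step hn,
      H.val_step e1, e2]

theorem pow_mod (k : ℕ) : y ^ (k % 3) = y ^ k := by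
  conv_rhs => rw [← Nat.mod_add_div k 3, pow_add, pow_mul, H.cube, one_pow, mul_one]

theorem mul {a b : ℕ} (ha : a < 24) (hb : b < 24) : H.u (sMul a b) = H.u a * H.u b := by
  have ht : ∀ k < 3, ∀ n < 8, aTab.getD (8 * k + n) 0 < 8 := by decide
  have hq : ∀ p < 8, ∀ q < 8, qTab.getD (p * 8 + q) 0 < 8 := by decide
  have hb' := ht (a / 8) (by omega) (b % 8) (Nat.mod_lt _ (by norm_num))
  have hc := hq (a % 8) (Nat.mod_lt _ (by norm_num)) _ hb'
  simp only [u, sMul, Nat.mul_add_mod, Nat.mod_eq_of_lt hc,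
    Nat.mul_add_div (show 0 < 8 by norm_num), Nat.div_eq_of_lt hc, add_zero]
  rw [H.pow_mod, pow_add, H.val_mul (Nat.mod_lt _ (by norm_num)) hb',
    ← H.val_pow (Nat.mod_lt _ (by norm_num)) (a / 8) (by omega)]
  group

theorem zero : H.u 0 = 1 := by simp [u, val, qv]

theorem four : H.u 4 = D.z := by simp [u, val, qv]

theorem val_mem (n : ℕ) : H.val n ∈ D.Q := by
  have hi := H.mem
  have hj := H.jmem
  have hz := D.ctx.mem
  rcases Nat.lt_or_ge n 8 with h | h
  · interval_cases n <;> simp only [val, qv]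
    exacts [one_mem _, hi, hj, mul_mem hi hj, hz, mul_mem hz hi, mul_mem hz hj, mul_mem hz (mul_mem hi hj)]
  · rw [val, qv]
    · exact one_mem _
    all_goals omega

theorem val_cls {n : ℕ} (hn : n < 8) :
    D.cls (H.val n) = ((n : ℕ) : ZMod 2) • v + ((n / 2 : ℕ) : ZMod 2) • w := by
  have hi := H.mem
  have hj := H.jmem
  have hz := D.ctx.mem
  have c2 : ((2 : ℕ) : ZMod 2) = 0 := rfl
  interval_cases n <;>
    simp [val, qv, D.cls_one, D.cls_z, D.cls_mul _ hi _ hj, D.cls_mul _ hz _ hi, D.cls_mul _ hz _ hj,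
      D.cls_mul _ hz _ (mul_mem hi hj), H.cls, H.jcls, show (2 : ZMod 2) = 0 from rfl,
      show (3 : ZMod 2) = 1 from rfl, show (4 : ZMod 2) = 0 from rfl, show (5 : ZMod 2) = 1 from rfl,
      show (6 : ZMod 2) = 0 from rfl, show (7 : ZMod 2) = 1 from rfl]

theorem u_low {n : ℕ} (hn : n < 8) : H.u n = H.val n := by
  rw [u, Nat.mod_eq_of_lt hn, Nat.div_eq_of_lt hn, pow_zero, mul_one]

theorem u_high (k : ℕ) : H.u (8 * k) = y ^ k := by simp [u, val, qv]

theorem u_cent (n : ℕ) : Commute (H.u n) D.z :=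
  (D.ctx.central _ (H.val_mem _)).symm.mul_left (H.comm.pow_left _)

theorem u_act (n : ℕ) : D.act (H.u n) = D.act y ^ (n / 8) := by
  rw [u, D.act_mul _ _ (D.ctx.central _ (H.val_mem _)).symm (H.comm.pow_left _), D.act_q (H.val_mem _),
    one_mul, D.act_pow H.comm]

theorem val_comm {g : G} (hg : Commute g D.z) (hi : Commute g i) (hy : Commute g y) (n : ℕ) :
    Commute g (H.val n) := by
  have hj : Commute g (y * i * y⁻¹) := (hy.mul_right hi).mul_right hy.inv_right
  rcases Nat.lt_or_ge n 8 with h | h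
  · interval_cases n <;> simp only [val, qv]
    exacts [Commute.one_right _, hi, hj, hi.mul_right hj, hg, hg.mul_right hi, hg.mul_right hj,
      hg.mul_right (hi.mul_right hj)]
  · rw [val, qv]
    · exact Commute.one_right _
    all_goals omega

theorem u_comm {g : G} (hg : Commute g D.z) (hi : Commute g i) (hy : Commute g y) (n : ℕ) :
    Commute g (H.u n) := (H.val_comm hg hi hy _).mul_right (hy.pow_right _)

end QBase

end Cfsg.Lib.Extra.SuzThree
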