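import Cfsg.Agent.Lib.Extra.SuzThree.Words
import Cfsg.Agent.Lib.Extra.SuzThree.Units

/-!
# Three commuting elements of order three rotating three planes
-/

set_option autoImplicit false
set_option maxRecDepth 10000
set_option linter.style.haveILetI false

namespace Cfsg.Lib.Extra.SuzThree

open Cfsg Module Cfsg.Lib.Linear Cfsg.Lib.Linear.Orth Cfsg.Lib.Extra.Wide Cfsg.Lib.Extra.SuzLocal
open scoped Matrix

/-- The exchange of the first two planes on codes. -/
def pc (n : ℕ) : ℕ := n % 4 * 4 + n / 4 % 4 + n / 16 * 16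

theorem pc_add : ∀ a < 64, ∀ b < 64, pc a < 64 ∧ pc (a ^^^ b) = pc a ^^^ pc b ∧ pc (pc a) = a ∧
    qM (pc a) = qM a ∧ bM (pc a) (pc b) = bM a b := by decide +kernel

variable {G : Type*} [Group G] {ι : Type} [Fintype ι] [DecidableEq ι]

/-- Three commuting elements of order three, each rotating one of three planes. -/
structure Tri (D : Data G ι) where
  /-- The coordinates. -/
  K : Coords D
  model : Model D
  /-- The element rotating the first plane. -/
  y0 : G
  /-- The element rotating the second plane. -/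
  y1 : G
  /-- The element rotating the third plane. -/
  y2 : G
  cube0 : y0 ^ 3 = 1
  cube1 : y1 ^ 3 = 1
  cube2 : y2 ^ 3 = 1
  z0 : Commute y0 D.z
  z1 : Commute y1 D.z
  z2 : Commute y2 D.z
  c01 : Commute y0 y1
  c02 : Commute y0 y2
  c12 : Commute y1 y2
  act0 : D.act y0 = K.W R0
  act1 : D.act y1 = K.W R1
  act2 : D.act y2 = K.W R2

variable {D : Data G ι}

theorem Coords.W_comm (K : Coords D) {u w : List ℕ} (hu : good u = true) (hw : good w = true)
    (h : key (u ++ w) = key (w ++ u)) : Commute (K.W u) (K.W w) := by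
  have := K.W_eq (good_append.2 ⟨hu, hw⟩) (good_append.2 ⟨hw, hu⟩) h
  rwa [K.W_append, K.W_append] at this

theorem Coords.W_cube (K : Coords D) {u : List ℕ} (hu : good u = true) (h : key (rep u 3) = key []) :
    K.W u ^ 3 = 1 := by
  rw [← K.W_rep, K.W_eq (good_rep hu 3) rfl h]; rfl

theorem Coords.perp_zero (K : Coords D) {x : ι → ZMod 2} (hf : (K.W R0).val *ᵥ x = x)
    (hp : ∀ a, a ∈ [4, 8, 16, 32] → D.B x (K.φ a) = 0) : x = 0 := by
  obtain ⟨n, hn, rfl⟩ := K.surj x
  rw [K.W_act good_words.1 hn] at hf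
  have h4 := fix_R0 n hn (K.inj (wM_lt good_words.1 hn) hn hf)
  have key : ((List.range 64).all fun n => !(Nat.beq (n % 4) 0 && Nat.beq (bM n 4) 0 && Nat.beq (bM n 8) 0 &&
      Nat.beq (bM n 16) 0 && Nat.beq (bM n 32) 0) || Nat.beq n 0) = true := by decide +kernel
  have k := List.all_eq_true.1 key n (List.mem_range.2 hn)
  simp only [h4, K.B_zero hn (by norm_num : 4 < 64) (hp 4 (by simp)), K.B_zero hn (by norm_num : 8 < 64) (hp 8 (by simp)),
    K.B_zero hn (by norm_num : 16 < 64) (hp 16 (by simp)), K.B_zero hn (by norm_num : 32 < 64) (hp 32 (by simp)),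
    Nat.beq_refl, Bool.and_self, Bool.not_true, Bool.false_or, Nat.beq_eq] at k
  rw [k, K.zero]

/-- An element of order three with a two-dimensional commutator belongs to a triple. -/
theorem Three.exists_tri {b : G} (h : Three D b) (M : Model D) : ∃ T : Tri D, T.y0 = b := by
  obtain ⟨p, P, h0, h1, hfix⟩ := h.exists_planes M
  obtain ⟨K, hK⟩ := P.coords M.six.card
  have hv : ∀ n, K.φ n = comb p n := fun n => by rw [hK]
  have e0 : K.φ 1 = p 0 := by rw [hv]; simp [comb]
  have e1 : K.φ 2 = p 1 := by rw [hv]; simp [comb, show (2 : ZMod 2) = 0 from rfl]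
  have e2 : K.φ 4 = p 2 := by rw [hv]; simp [comb, show (4 : ZMod 2) = 0 from rfl, show (2 : ZMod 2) = 0 from rfl]
  have e3 : K.φ 8 = p 3 := by
    rw [hv]; simp [comb, show (8 : ZMod 2) = 0 from rfl, show (4 : ZMod 2) = 0 from rfl, show (2 : ZMod 2) = 0 from rfl]
  have e4 : K.φ 16 = p 4 := by
    rw [hv]; simp [comb, show (16 : ZMod 2) = 0 from rfl, show (8 : ZMod 2) = 0 from rfl,
      show (4 : ZMod 2) = 0 from rfl, show (2 : ZMod 2) = 0 from rfl]
  have e5 : K.φ 32 = p 5 := by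
    rw [hv]; simp [comb, show (32 : ZMod 2) = 0 from rfl, show (16 : ZMod 2) = 0 from rfl,
      show (8 : ZMod 2) = 0 from rfl, show (4 : ZMod 2) = 0 from rfl, show (2 : ZMod 2) = 0 from rfl]
  have hg : D.act b = K.W R0 := by
    refine K.ext_six fun x hx => ?_
    simp only [List.mem_cons, List.not_mem_nil, or_false] at hx
    rcases hx with rfl | rfl | rfl | rfl | rfl | rfl
    · rw [K.W_act good_words.1 (by norm_num), fixed_codes.2.2.2.2.1, e0, e1, h0]
    · rw [K.W_act good_words.1 (by norm_num), fixed_codes.2.2.2.2.2, e1, h1,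
        show (3 : ℕ) = 1 ^^^ 2 from rfl, K.add (by norm_num) (by norm_num), e0, e1]
    · rw [K.R0_fix (by simp), e2, hfix 2 le_rfl]
    · rw [K.R0_fix (by simp), e3, hfix 3 (by decide)]
    · rw [K.R0_fix (by simp), e4, hfix 4 (by decide)]
    · rw [K.R0_fix (by simp), e5, hfix 5 (by decide)]
  obtain ⟨r30, r31, r32, c01, c02, c12, -, -, -, -⟩ := rot_facts
  obtain ⟨g0, g1, g2, -, -, -, -⟩ := good_words
  obtain ⟨y1, q1, z1, b1, a1⟩ := lift_cube h.cube h.comm (K.W_omega g1 (by decide)) (K.W_cube g1 r31)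
    (by rw [hg]; exact K.W_comm g0 g1 c01)
  obtain ⟨y2, q2, z2, b2, a2⟩ := lift_cube h.cube h.comm (K.W_omega g2 (by decide)) (K.W_cube g2 r32)
    (by rw [hg]; exact K.W_comm g0 g2 c02)
  have h12 : Commute (D.act y1) (D.act y2) := by rw [a1, a2]; exact K.W_comm g1 g2 c12
  have hrz : Commute (y1 * y2 * y1⁻¹ * y2⁻¹) D.z := ((z1.mul_left z2).mul_left z1.inv_left).mul_left z2.inv_left
  set r := y1 * y2 * y1⁻¹ * y2⁻¹ with hr
  have hrQ : r ∈ D.Q := (D.act_ker r hrz).1 (by
    rw [hr, D.act_mul _ _ ((z1.mul_left z2).mul_left z1.inv_left) z2.inv_left,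
      D.act_mul _ _ (z1.mul_left z2) z1.inv_left, D.act_mul _ _ z1 z2, D.act_inv z1, D.act_inv z2, h12.eq,
      mul_inv_cancel_right, mul_inv_cancel])
  have hrb : Commute r b := ((b1.mul_left b2).mul_left b1.inv_left).mul_left b2.inv_left
  have hperp : ∀ a, a ∈ [4, 8, 16, 32] → D.B (D.cls r) (K.φ a) = 0 := fun a ha => by
    obtain ⟨q, hq, hqa⟩ := D.cls_surj (K.φ a)
    rw [← hqa, ← D.cls_comm r hrQ q hq]
    have f : ∀ (w : List ℕ), good w = true → wM w a = a → (K.W w).val *ᵥ D.cls q = D.cls q := fun w hw e => by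
      rw [hqa, K.W_act hw (by simp only [List.mem_cons, List.not_mem_nil, or_false] at ha; omega), e]
    simp only [List.mem_cons, List.not_mem_nil, or_false] at ha
    rcases ha with rfl | rfl | rfl | rfl
    · exact comm_fix q2 z1 z2 h12 hq (by rw [a2]; exact f _ g2 rfl)
    · exact comm_fix q2 z1 z2 h12 hq (by rw [a2]; exact f _ g2 rfl)
    all_goals
      have := comm_fix q1 z2 z1 h12.symm hq (by rw [a1]; exact f _ g1 rfl)
      rw [show y2 * y1 * y2⁻¹ * y1⁻¹ = r⁻¹ by rw [hr]; group] at this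
      simpa using this.inv_left
  have hr0 : D.cls r = 0 := K.perp_zero (by rw [← hg]; exact D.fix_of_commute h.comm hrQ hrb.symm) hperp
  refine ⟨⟨K, M, b, y1, y2, h.cube, q1, q2, h.comm, z1, z2, b1.symm, b2.symm, ?_, hg, a1, a2⟩, rfl⟩
  rcases (D.cls_ker r hrQ).1 hr0 with e | e
  · exact commute_of_mul_mul e
  · exfalso
    refine D.ctx.ne_one ?_
    have e' : y1 * y2 * y1⁻¹ = D.z * y2 := by
      rw [← e, hr, inv_mul_cancel_right]
    have h3 := congrArg (fun w => w ^ 3) e'
    simp only [conj_pow, q2, mul_one, mul_inv_cancel, z2.symm.mul_pow, z_cube] at h3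
    exact h3.symm

namespace Tri

variable (T : Tri D)

/-- The triple with the first two planes exchanged. -/
def swap : Tri D where
  K :=
    { φ := fun n => T.K.φ (pc n)
      add := fun {a b} ha hb => by
        obtain ⟨h1, h2, -⟩ := pc_add a ha b hb
        rw [h2, T.K.add h1 (pc_add b hb a ha).1]
      q := fun {a} ha => by
        obtain ⟨h1, -, -, h4, -⟩ := pc_add a ha a ha
        rw [T.K.q h1, h4]
      B := fun {a b} ha hb => by
        obtain ⟨h1, -, -, -, h5⟩ := pc_add a ha b hb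
        rw [T.K.B h1 (pc_add b hb a ha).1, h5]
      surj := fun x => by
        obtain ⟨n, hn, e⟩ := T.K.surj x
        obtain ⟨h1, -, h3, -⟩ := pc_add n hn n hn
        exact ⟨pc n, h1, by show T.K.φ (pc (pc n)) = x; rw [h3, e]⟩ }
  model := T.model
  y0 := T.y1
  y1 := T.y0
  y2 := T.y2
  cube0 := T.cube1
  cube1 := T.cube0
  cube2 := T.cube2
  z0 := T.z1
  z1 := T.z0
  z2 := T.z2
  c01 := T.c01.symm
  c02 := T.c12
  c12 := T.c02
  act0 := T.act1.trans rfl
  act1 := T.act0.trans rfl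
  act2 := T.act2.trans rfl

/-- The first two elements are conjugate in the centraliser of `z`. -/
theorem exists_conj : ∃ c, Commute c D.z ∧ c * T.y0 * c⁻¹ = T.y1 := by
  obtain ⟨g0, g1, -, -, -, g5, -⟩ := good_words
  obtain ⟨c, hc, hca⟩ := D.act_surj (T.K.W S01) (T.K.W_omega g5 (by decide))
  obtain ⟨q, hq, e⟩ := conj_of_act (b := c * T.y0 * c⁻¹) (b' := T.y1) (by rw [conj_pow, T.cube0]; simp)
    ((hc.mul_left T.z0).mul_left hc.inv_left) T.cube1 T.z1 (by
      rw [D.act_mul _ _ (hc.mul_left T.z0) hc.inv_left, D.act_mul _ _ hc T.z0, D.act_inv hc, hca, T.act0,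
        T.act1, ← T.K.W_append, T.K.W_eq (good_append.2 ⟨g5, g0⟩) (good_append.2 ⟨g1, g5⟩)
          rot_facts.2.2.2.2.2.2.2.2.1, T.K.W_append, mul_inv_cancel_right])
  exact ⟨q * c, (D.ctx.central q hq).symm.mul_left hc, by rw [← e]; group⟩

/-- The first element is inverted in the centraliser of `z`. -/
theorem exists_inverter : ∃ c, Commute c D.z ∧ c * T.y0 * c⁻¹ = T.y0⁻¹ := by
  obtain ⟨g0, -, -, -, -, -, g6⟩ := good_words
  obtain ⟨c, hc, hca⟩ := D.act_surj (T.K.W N0) (T.K.W_omega g6 (by decide))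
  obtain ⟨q, hq, e⟩ := conj_of_act (b := c * T.y0 * c⁻¹) (b' := T.y0⁻¹) (by rw [conj_pow, T.cube0]; simp)
    ((hc.mul_left T.z0).mul_left hc.inv_left) (by rw [inv_pow, T.cube0, inv_one]) T.z0.inv_left (by
      have h2 : (T.K.W R0)⁻¹ = T.K.W R0 ^ 2 := inv_eq_of_mul_eq_one_right (by
        rw [← pow_succ']; exact T.K.W_cube g0 rot_facts.1)
      rw [D.act_mul _ _ (hc.mul_left T.z0) hc.inv_left, D.act_mul _ _ hc T.z0, D.act_inv hc, D.act_inv T.z0, hca,
        T.act0, h2, ← T.K.W_rep, ← T.K.W_append N0 R0, T.K.W_eq (good_append.2 ⟨g6, g0⟩)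
          (good_append.2 ⟨good_rep g0 2, g6⟩) rot_facts.2.2.2.2.2.2.2.2.2, T.K.W_append, mul_inv_cancel_right])
  exact ⟨q * c, (D.ctx.central q hq).symm.mul_left hc, by rw [← e]; group⟩

end Tri

end Cfsg.Lib.Extra.SuzThree
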