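import Cfsg.Agent.Lib.Extra.SuzThree.Planes

/-!
# Words of reflections and the centraliser of the first rotation
-/

set_option autoImplicit false
set_option maxRecDepth 10000

namespace Cfsg.Lib.Extra.SuzThree

open Cfsg Module Cfsg.Lib.Linear Cfsg.Lib.Linear.Orth Cfsg.Lib.Extra.Wide Cfsg.Lib.Extra.SuzLocal
open scoped Matrix

theorem wM_lt : ∀ {l : List ℕ}, good l = true → ∀ {x : ℕ}, x < 64 → wM l x < 64
  | [], _, _, hx => hx
  | _ :: _, h, _, hx => rM_lt (good_cons.1 h).1.1 (wM_lt (good_cons.1 h).2 hx)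

/-- Equal keys mean equal images. -/
theorem key_inj {u w : List ℕ} (hu : good u = true) (hw : good w = true) (h : key u = key w) :
    ∀ x, x ∈ [1, 2, 4, 8, 16, 32] → wM u x = wM w x := by
  have a1 := wM_lt hu (show 1 < 64 by norm_num)
  have a2 := wM_lt hu (show 2 < 64 by norm_num)
  have a3 := wM_lt hu (show 4 < 64 by norm_num)
  have a4 := wM_lt hu (show 8 < 64 by norm_num)
  have a5 := wM_lt hu (show 16 < 64 by norm_num)
  have a6 := wM_lt hu (show 32 < 64 by norm_num)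
  have b1 := wM_lt hw (show 1 < 64 by norm_num)
  have b2 := wM_lt hw (show 2 < 64 by norm_num)
  have b3 := wM_lt hw (show 4 < 64 by norm_num)
  have b4 := wM_lt hw (show 8 < 64 by norm_num)
  have b5 := wM_lt hw (show 16 < 64 by norm_num)
  have b6 := wM_lt hw (show 32 < 64 by norm_num)
  simp only [key] at h
  intro x hx
  simp only [List.mem_cons, List.not_mem_nil, or_false] at hx
  rcases hx with rfl | rfl | rfl | rfl | rfl | rfl <;> omega

theorem first_plane : ((List.range 64).all fun a =>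
    !(Nat.beq (bM a 4) 0 && Nat.beq (bM a 8) 0 && Nat.beq (bM a 16) 0 && Nat.beq (bM a 32) 0 &&
      Nat.beq (qM a) 1) || (List.range 3).any fun l =>
      Nat.beq a (wM (rep R0 l) 1) && Nat.beq (wM R0 a) (wM (rep R0 l) 2)) = true := by decide +kernel

theorem fixed_codes : wM R0 4 = 4 ∧ wM R0 8 = 8 ∧ wM R0 16 = 16 ∧ wM R0 32 = 32 ∧ wM R0 1 = 2 ∧
    wM R0 2 = 3 := by decide +kernel

namespace Coords

variable {G : Type*} [Group G] {ι : Type} [Fintype ι] [DecidableEq ι] {D : Data G ι} (K : Coords D)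

theorem zero : K.φ 0 = 0 := by
  have h := K.add (a := 0) (b := 0) (by norm_num) (by norm_num)
  rw [Nat.xor_self] at h
  exact h.trans (vadd_self _)

theorem q_one {a : ℕ} (ha : a < 64) (h : qM a = 1) : D.qf (K.φ a) = 1 := by rw [K.q ha, h, Nat.cast_one]

theorem inj {a b : ℕ} (ha : a < 64) (hb : b < 64) (h : K.φ a = K.φ b) : a = b := by
  by_contra hne
  obtain ⟨h64, -⟩ := xor_bits a ha b hb
  obtain ⟨c, hc, hc1⟩ := bM_nondeg _ h64 fun e => hne (Nat.xor_eq_zero_iff.1 e)
  have e := K.B h64 hc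
  rw [K.add ha hb, h, vadd_self, map_zero, LinearMap.zero_apply, hc1, Nat.cast_one] at e
  exact zero_ne_one e

theorem code_eq_zero {a : ℕ} (ha : a < 64) (h : K.φ a = 0) : a = 0 :=
  K.inj ha (by norm_num) (h.trans K.zero.symm)

theorem B_zero {a b : ℕ} (ha : a < 64) (hb : b < 64) (h : D.B (K.φ a) (K.φ b) = 0) : bM a b = 0 := by
  rw [K.B ha hb] at h
  have : bM a b < 2 := Nat.mod_lt _ (by norm_num)
  rcases Nat.lt_or_ge (bM a b) 1 with h' | h'
  · omega
  · rw [show bM a b = 1 by omega, Nat.cast_one] at h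
    exact absurd h one_ne_zero

theorem q_val {a : ℕ} (ha : a < 64) (h : D.qf (K.φ a) = 1) : qM a = 1 := by
  rw [K.q ha] at h
  have : qM a < 2 := Nat.mod_lt _ (by norm_num)
  rcases Nat.lt_or_ge (qM a) 1 with h' | h'
  · rw [show qM a = 0 by omega, Nat.cast_zero] at h
    exact absurd h zero_ne_one
  · omega

/-- The isometry of a word. -/
noncomputable def W : List ℕ → GL ι (ZMod 2)
  | [] => 1
  | v :: l => rGL D.qf (K.φ v) * W l

theorem W_append : ∀ a b : List ℕ, K.W (a ++ b) = K.W a * K.W b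
  | [], b => (one_mul _).symm
  | v :: a, b => by
    show rGL D.qf (K.φ v) * K.W (a ++ b) = rGL D.qf (K.φ v) * K.W a * K.W b
    rw [W_append a b, mul_assoc]

theorem W_rep (l : List ℕ) : ∀ n, K.W (rep l n) = K.W l ^ n
  | 0 => (pow_zero _).symm
  | n + 1 => by rw [rep, W_append, W_rep l n, pow_succ']

theorem W_act : ∀ {l : List ℕ}, good l = true → ∀ {x : ℕ}, x < 64 → (K.W l).val *ᵥ K.φ x = K.φ (wM l x)
  | [], _, x, _ => by rw [W, Units.val_one, Matrix.one_mulVec]; rfl
  | v :: l, h, x, hx => by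
    obtain ⟨⟨hv, hqv⟩, hl⟩ := good_cons.1 h
    have hw := wM_lt hl hx
    show (rGL D.qf (K.φ v) * K.W l).val *ᵥ K.φ x = K.φ (rM v (wM l x))
    rw [mul_act, W_act hl hx, rGL_apply D.space (K.q_one hv hqv), K.B hv hw, rM]
    have hlt : bM v (wM l x) < 2 := Nat.mod_lt _ (by norm_num)
    rcases Nat.lt_or_ge (bM v (wM l x)) 1 with h' | h'
    · rw [show bM v (wM l x) = 0 by omega]
      simp
    · rw [show bM v (wM l x) = 1 by omega]
      simp only [Nat.cast_one, one_smul, show Nat.beq 1 1 = true from rfl, ↓reduceIte]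
      rw [K.add hw hv]

/-- An isometry is determined by the images of six vectors. -/
theorem ext_six {g h : GL ι (ZMod 2)}
    (e : ∀ x, x ∈ [1, 2, 4, 8, 16, 32] → g.val *ᵥ K.φ x = h.val *ᵥ K.φ x) : g = h := by
  refine gl_ext fun v => ?_
  obtain ⟨n, hn, rfl⟩ := K.surj v
  have key : ∀ n < 64, n = ((((n % 2) ^^^ (2 * (n / 2 % 2))) ^^^ (4 * (n / 4 % 2))) ^^^ (8 * (n / 8 % 2))) ^^^
      (16 * (n / 16 % 2)) ^^^ (32 * (n / 32 % 2)) := by decide +kernel
  have hb : ∀ k, k ∈ [1, 2, 4, 8, 16, 32] → ∀ m < 2, g.val *ᵥ K.φ (k * m) = h.val *ᵥ K.φ (k * m) := by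
    intro k hk m hm
    interval_cases m
    · rw [Nat.mul_zero, K.zero, Matrix.mulVec_zero, Matrix.mulVec_zero]
    · rw [Nat.mul_one]; exact e k hk
  have hs : ∀ {a b}, a < 64 → b < 64 → g.val *ᵥ K.φ a = h.val *ᵥ K.φ a → g.val *ᵥ K.φ b = h.val *ᵥ K.φ b →
      (a ^^^ b) < 64 ∧ g.val *ᵥ K.φ (a ^^^ b) = h.val *ᵥ K.φ (a ^^^ b) := fun ha hb e1 e2 =>
    ⟨(xor_bits _ ha _ hb).1, by rw [K.add ha hb, Matrix.mulVec_add, Matrix.mulVec_add, e1, e2]⟩
  rw [key n hn]
  have t : ∀ k, k % 2 < 2 := fun k => Nat.mod_lt _ (by norm_num)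
  obtain ⟨l1, s1⟩ := hs (a := n % 2) (b := 2 * (n / 2 % 2)) (by omega) (by omega)
    (by simpa using hb 1 (by simp) _ (t n)) (hb 2 (by simp) _ (t _))
  obtain ⟨l2, s2⟩ := hs l1 (b := 4 * (n / 4 % 2)) (by omega) s1 (hb 4 (by simp) _ (t _))
  obtain ⟨l3, s3⟩ := hs l2 (b := 8 * (n / 8 % 2)) (by omega) s2 (hb 8 (by simp) _ (t _))
  obtain ⟨l4, s4⟩ := hs l3 (b := 16 * (n / 16 % 2)) (by omega) s3 (hb 16 (by simp) _ (t _))
  exact (hs l4 (b := 32 * (n / 32 % 2)) (by omega) s4 (hb 32 (by simp) _ (t _))).2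

theorem W_eq {u w : List ℕ} (hu : good u = true) (hw : good w = true) (h : key u = key w) :
    K.W u = K.W w := by
  refine K.ext_six fun x hx => ?_
  have hx64 : x < 64 := by simp only [List.mem_cons, List.not_mem_nil, or_false] at hx; omega
  rw [K.W_act hu hx64, K.W_act hw hx64, key_inj hu hw h x hx]

theorem key_eq {u w : List ℕ} (hu : good u = true) (hw : good w = true) (h : K.W u = K.W w) :
    key u = key w := by
  have e : ∀ x < 64, wM u x = wM w x := fun x hx =>
    K.inj (wM_lt hu hx) (wM_lt hw hx) (by rw [← K.W_act hu hx, h, K.W_act hw hx])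
  simp only [key, e 1 (by norm_num), e 2 (by norm_num), e 4 (by norm_num), e 8 (by norm_num),
    e 16 (by norm_num), e 32 (by norm_num)]

theorem W_omega : ∀ {l : List ℕ}, good l = true → Even l.length → K.W l ∈ Cfsg.Geo.omegaGL D.qf
  | [], _, _ => one_mem _
  | [_], _, h => absurd h (by simp)
  | a :: b :: l, h, he => by
    obtain ⟨⟨ha, hqa⟩, h'⟩ := good_cons.1 h
    obtain ⟨⟨hb, hqb⟩, hl⟩ := good_cons.1 h'
    show rGL D.qf (K.φ a) * (rGL D.qf (K.φ b) * K.W l) ∈ _
    rw [← mul_assoc]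
    exact mul_mem (rr_mem (K.q_one ha hqa) (K.q_one hb hqb))
      (W_omega hl ((Nat.even_add.1 (show Even (l.length + 2) from he)).2 even_two))

theorem even_rep {l : List ℕ} (h : Even l.length) : ∀ n, Even (rep l n).length
  | 0 => by simp [rep]
  | n + 1 => by rw [rep, List.length_append]; exact h.add (even_rep h n)

theorem W_wd_mem (i : ℕ × ℕ × ℕ × ℕ × ℕ) : K.W (wd i) ∈ Cfsg.Geo.omegaGL D.qf := by
  refine K.W_omega (good_wd i) ?_
  simp only [wd, cW, eW, List.length_append]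
  refine ((even_rep (by decide) _).add ((even_rep (by decide) _).add (even_rep (by decide) _))).add
    ((even_rep (by decide) _).add (even_rep (by decide) _))

theorem R0_fix {x : ℕ} (hx : x ∈ [4, 8, 16, 32]) : (K.W R0).val *ᵥ K.φ x = K.φ x := by
  obtain ⟨h1, h2, h3, h4, -, -⟩ := fixed_codes
  simp only [List.mem_cons, List.not_mem_nil, or_false] at hx
  rw [K.W_act good_words.1 (by omega)]
  rcases hx with rfl | rfl | rfl | rfl <;> simp [h1, h2, h3, h4]

/-- An element of `Ω` commuting with the first rotation is one of the words. -/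
theorem exists_word {k : GL ι (ZMod 2)} (hk : k ∈ Cfsg.Geo.omegaGL D.qf) (hc : Commute (K.W R0) k) :
    ∃ i ∈ idx, k = K.W (wd i) := by
  have hiso := omegaGL_le_iso hk
  have hB := fun x y => D.space.B_act hiso x y
  have img : ∀ x, x < 64 → ∃ a < 64, k.val *ᵥ K.φ x = K.φ a ∧ qM a = qM x := fun x hx => by
    obtain ⟨a, ha, e⟩ := K.surj (k.val *ᵥ K.φ x)
    refine ⟨a, ha, e.symm, ?_⟩
    have h1 : D.qf (K.φ a) = D.qf (K.φ x) := by rw [e]; exact mem_iso.1 hiso _
    rw [K.q ha, K.q hx, ZMod.natCast_eq_natCast_iff'] at h1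
    have e1 : qM a < 2 := Nat.mod_lt _ (by norm_num)
    have e2 : qM x < 2 := Nat.mod_lt _ (by norm_num)
    rwa [Nat.mod_eq_of_lt e1, Nat.mod_eq_of_lt e2] at h1
  -- the first plane
  obtain ⟨a, ha, hka, hqa⟩ := img 1 (by norm_num)
  have hperp : ∀ x, x ∈ [4, 8, 16, 32] → bM a x = 0 := fun x hx => by
    have hx64 : x < 64 := by simp only [List.mem_cons, List.not_mem_nil, or_false] at hx; omega
    obtain ⟨n, hn, hn'⟩ := K.surj ((k⁻¹ : GL ι (ZMod 2)).val *ᵥ K.φ x)
    have hfix : (K.W R0).val *ᵥ K.φ n = K.φ n := by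
      rw [hn', ← mul_act, hc.inv_right.eq, mul_act, K.R0_fix hx]
    rw [K.W_act good_words.1 hn] at hfix
    have hn4 := fix_R0 n hn (K.inj (wM_lt good_words.1 hn) hn hfix)
    have e : bM 1 n = 0 := by
      have : ∀ n < 64, n % 4 = 0 → bM 1 n = 0 := by decide +kernel
      exact this n hn hn4
    refine K.B_zero ha hx64 ?_
    rw [← hka, show K.φ x = k.val *ᵥ K.φ n by rw [hn', act_inv], hB, K.B (by norm_num) hn, e, Nat.cast_zero]
  have hfp := List.all_eq_true.1 first_plane a (List.mem_range.2 ha)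
  simp only [hperp 4 (by simp), hperp 8 (by simp), hperp 16 (by simp), hperp 32 (by simp), hqa,
    show qM 1 = 1 from rfl, Nat.beq_refl, Bool.and_self, Bool.not_true, Bool.false_or, List.any_eq_true,
    List.mem_range, Bool.and_eq_true, Nat.beq_eq] at hfp
  obtain ⟨l, hl, hal, hal2⟩ := hfp
  have h2 : k.val *ᵥ K.φ 2 = K.φ (wM (rep R0 l) 2) := by
    rw [← hal2, ← K.W_act good_words.1 ha, ← hka, ← mul_act, hc.eq, mul_act,
      K.W_act good_words.1 (by norm_num), fixed_codes.2.2.2.2.1]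
  -- the other planes
  have imgW : ∀ x, x ∈ [4, 8, 16, 32] → ∃ b < 64, k.val *ᵥ K.φ x = K.φ b ∧ b ∈ six := fun x hx => by
    have hx64 : x < 64 := by simp only [List.mem_cons, List.not_mem_nil, or_false] at hx; omega
    obtain ⟨b, hb, hkb, hqb⟩ := img x hx64
    refine ⟨b, hb, hkb, six_spec b hb (fix_R0 b hb (K.inj (wM_lt good_words.1 hb) hb ?_)) ?_⟩
    · rw [← K.W_act good_words.1 hb, ← hkb, ← mul_act, hc.eq, mul_act, K.R0_fix hx]
    · rw [hqb]
      simp only [List.mem_cons, List.not_mem_nil, or_false] at hx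
      rcases hx with rfl | rfl | rfl | rfl <;> rfl
  obtain ⟨b1, l1, k1, s1⟩ := imgW 4 (by simp)
  obtain ⟨b2, l2, k2, s2⟩ := imgW 8 (by simp)
  obtain ⟨b3, l3, k3, s3⟩ := imgW 16 (by simp)
  obtain ⟨b4, l4, k4, s4⟩ := imgW 32 (by simp)
  have bb : ∀ {x y a b}, x < 64 → y < 64 → a < 64 → b < 64 → k.val *ᵥ K.φ x = K.φ a →
      k.val *ᵥ K.φ y = K.φ b → bM a b = bM x y := fun {x y a b} hx hy ha hb e1 e2 => by
    have h := hB (K.φ x) (K.φ y)
    rw [e1, e2, K.B ha hb, K.B hx hy, ZMod.natCast_eq_natCast_iff'] at h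
    have p1 : bM a b < 2 := Nat.mod_lt _ (by norm_num)
    have p2 : bM x y < 2 := Nat.mod_lt _ (by norm_num)
    rwa [Nat.mod_eq_of_lt p1, Nat.mod_eq_of_lt p2] at h
  have hok : okImg b1 b2 b3 b4 = true := by
    simp only [okImg, Bool.and_eq_true, Nat.beq_eq,
      bb (x := 4) (y := 8) (by norm_num) (by norm_num) l1 l2 k1 k2,
      bb (x := 16) (y := 32) (by norm_num) (by norm_num) l3 l4 k3 k4,
      bb (x := 4) (y := 16) (by norm_num) (by norm_num) l1 l3 k1 k3,
      bb (x := 4) (y := 32) (by norm_num) (by norm_num) l1 l4 k1 k4,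
      bb (x := 8) (y := 16) (by norm_num) (by norm_num) l2 l3 k2 k3,
      bb (x := 8) (y := 32) (by norm_num) (by norm_num) l2 l4 k2 k4]
    decide
  have hcl := List.all_eq_true.1 (List.all_eq_true.1 (List.all_eq_true.1 (List.all_eq_true.1
    (List.all_eq_true.1 classify l (List.mem_range.2 hl)) b1 s1) b2 s2) b3 s3) b4 s4
  simp only [hok, Bool.not_true, Bool.false_or, List.any_eq_true, Bool.or_eq_true, Nat.beq_eq] at hcl
  obtain ⟨i, hi, hcl⟩ := hcl
  have h1 : k.val *ᵥ K.φ 1 = K.φ (wM (rep R0 l) 1) := by rw [← hal]; exact hka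
  have hag : ∀ {w : List ℕ}, good w = true → key w = wM (rep R0 l) 1 + 64 * wM (rep R0 l) 2 +
      4096 * b1 + 262144 * b2 + 16777216 * b3 + 1073741824 * b4 → k = K.W w := fun {w} hw he => by
    have c1 := wM_lt (good_rep good_words.1 l) (show 1 < 64 by norm_num)
    have c2 := wM_lt (good_rep good_words.1 l) (show 2 < 64 by norm_num)
    have d1 := wM_lt hw (show 1 < 64 by norm_num)
    have d2 := wM_lt hw (show 2 < 64 by norm_num)
    have d3 := wM_lt hw (show 4 < 64 by norm_num)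
    have d4 := wM_lt hw (show 8 < 64 by norm_num)
    have d5 := wM_lt hw (show 16 < 64 by norm_num)
    have d6 := wM_lt hw (show 32 < 64 by norm_num)
    simp only [key] at he
    refine K.ext_six fun x hx => ?_
    simp only [List.mem_cons, List.not_mem_nil, or_false] at hx
    rcases hx with rfl | rfl | rfl | rfl | rfl | rfl <;> rw [K.W_act hw (by norm_num)]
    · rw [h1]; congr 1; omega
    · rw [h2]; congr 1; omega
    · rw [k1]; congr 1; omega
    · rw [k2]; congr 1; omega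
    · rw [k3]; congr 1; omega
    · rw [k4]; congr 1; omega
  rcases hcl with h | h
  · exact ⟨i, hi, hag (good_wd i) h⟩
  · exfalso
    have e := hag (good_append.2 ⟨good_wd i, by decide⟩) h
    rw [e, K.W_append, (Cfsg.Geo.omegaGL D.qf).mul_mem_cancel_left (K.W_wd_mem i)] at hk
    have h5 : 5 ≤ Fintype.card ι := by have := D.six; omega
    have hq4 := K.q_one (a := 4) (by norm_num) rfl
    have hr : K.W [4] = rGL D.qf (K.φ 4) := mul_one _
    rw [hr, mem_omega_iff D.space h5 D.ev (rGL_mem' D.space hq4)] at hk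
    obtain ⟨m, hm⟩ := hk
    obtain ⟨n, hn⟩ := D.ev
    have := fix_rGL_card D.space hq4
    omega

end Coords

end Cfsg.Lib.Extra.SuzThree
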